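import Groth.Agent.Redsub.H644.BorelClosed
import Groth.Agent.Sga3B.Parab.PbK2
import Groth.Agent.Sga3B.Parab.PcP
import Groth.Agent.Sga3B.Parab.FibIsoSch
import Groth.Agent.S3025
import Groth.Agent.S0351

/-!
# Parabolic sub-group-schemes are closed, have connected fibres and are self-normalising
-/

set_option autoImplicit false

universe u

open CategoryTheory MonoidalCategory CartesianMonoidalCategory MonObj GrpObj AlgebraicGeometry Limits

namespace Groth.Agent.RedSub.H650.ParClosed

open Groth.Agent.Sga3B Groth.Agent.Sga3B.Parab

variable {S : Scheme.{u}} {G P : Over S} [GrpObj G] [GrpObj P]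

/-- The geometric fibres of a parabolic sub-group-scheme are (closed) parabolic subgroups. -/
theorem isParabolicOver_fibre (i : P ⟶ G) (hP : RedSub.IsParabolicSub i) (s : S) :
    Red.IsParabolicOver (AlgebraicClosure (S.residueField s)) ((Over.pullback (Red.geomPt s)).map i) := by
  have h1 : IsMonHom i := hP.1.1
  have h2 : IsImmersion i.left := hP.1.2
  have h3 : Smooth P.hom := hP.2.1
  have h4 : IsImmersion ((Over.pullback (Red.geomPt s)).map i).left :=
    MorphismProperty.of_isPullback (Parab.FibIsoSch.isPullback_map_left (Red.geomPt s) i) h2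
  refine ⟨inferInstance, S0351.result (AlgebraicClosure (S.residueField s)) _ _ _, ?_, hP.2.2 s⟩
  exact inferInstanceAs (Smooth (pullback.snd P.hom (Red.geomPt s)))

/-- Parabolic sub-group-schemes of reductive groups have connected geometric fibres. -/
theorem connectedSpace_geomFibre (hG : Red.IsReductive G) (i : P ⟶ G) (hP : RedSub.IsParabolicSub i) (s : S) :
    ConnectedSpace (Red.geomFibre s P).left :=
  (Sga3B.Parab.PbK2.dynK2_of (fun K _ _ => RG.PbQ890.k2 K) (AlgebraicClosure (S.residueField s))
    (Red.geomFibre s G) (Red.geomFibre s P) ((Over.pullback (Red.geomPt s)).map i) (hG.2.2 s)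
    (isParabolicOver_fibre i hP s)).1

/-- Parabolic sub-group-schemes of reductive groups have connected fibres. -/
theorem hasConnectedFibres (hG : Red.IsReductive G) (i : P ⟶ G) (hP : RedSub.IsParabolicSub i) :
    RedSub.HasConnectedFibres P :=
  fun s => Sga3B.Parab.isConnected_fibre s (connectedSpace_geomFibre hG i hP s)

/-- **Parabolic sub-group-schemes of reductive groups are closed.** -/
theorem isClosedImmersion (hG : Red.IsReductive G) (i : P ⟶ G) (hP : RedSub.IsParabolicSub i) :
    IsClosedImmersion i.left := by
  have h3 : Smooth P.hom := hP.2.1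
  have hc := hasConnectedFibres hG i hP
  have hopen : UniversallyOpen P.hom := inferInstance
  exact Redsub.H644.BorelClosed.isClosedImmersion_of_isParabolicOver hG i hP.1 h3 (S3025.result S P hc).2
    (Redsub.H644.BorelClosed.geometricallyIrreducible_of_hasConnectedFibres hc)
    (isParabolicOver_fibre i hP)

/-- Parabolic sub-group-schemes are parabolic in the sense with closedness built in. -/
theorem isParabolic (hG : Red.IsReductive G) (i : P ⟶ G) (hP : RedSub.IsParabolicSub i) : Red.IsParabolic i :=
  ⟨hP.1.1, isClosedImmersion hG i hP, hP.2.1, isParabolicOver_fibre i hP⟩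

end Groth.Agent.RedSub.H650.ParClosed
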