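import Groth.Agent.Books.DynOpen
import Mathlib.Algebra.DualNumber

/-!
# Points with values in dual numbers and the adjoint action, in the convolution algebra

For a Hopf algebra `A` over `k` and a `k`-algebra `C`, `lin : G(C) → Hom_k(A, C)` is multiplicative for the
convolution product, and the second component of the point `g (1 + ε d) h` of `G(C[ε])` is `g * d * h`.
-/

set_option autoImplicit false

open TensorProduct WithConv LaurentPolynomial

universe u

namespace Groth.Agent.RedSub.H650.AdPart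

open Groth.Agent.Books.DynBasic Groth.Agent.Books.DynLim

variable {k : Type u} [CommRing k] {A : Type u} [CommRing A] [HopfAlgebra k A]
variable {C : Type u} [CommRing C] [Algebra k C]
variable {D : Type u} [CommRing D] [Algebra k D]

/-- the underlying linear map of a point, as a monoid homomorphism -/
noncomputable def lin : WithConv (A →ₐ[k] C) →* WithConv (A →ₗ[k] C) where
  toFun g := toConv g.ofConv.toLinearMap
  map_one' := rfl
  map_mul' _ _ := rfl

@[simp] lemma lin_apply (g : WithConv (A →ₐ[k] C)) (a : A) : (lin g).ofConv a = g.ofConv a := rfl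

lemma lin_injective : Function.Injective (lin (k := k) (A := A) (C := C)) := by
  intro g h hgh
  apply WithConv.ofConv_injective
  ext a
  exact DFunLike.congr_fun (congrArg WithConv.ofConv hgh) a

/-- point derivations at the identity with values in `C` -/
def IsDer (d : A →ₗ[k] C) : Prop :=
  ∀ a b, d (a * b) = algebraMap k C (Coalgebra.counit a) * d b +
    algebraMap k C (Coalgebra.counit b) * d a

/-- push forward of linear maps -/
noncomputable def pushL (φ : C →ₐ[k] D) (d : WithConv (A →ₗ[k] C)) : WithConv (A →ₗ[k] D) :=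
  toConv (φ.toLinearMap ∘ₗ d.ofConv)

lemma pushL_mul (φ : C →ₐ[k] D) (d e : WithConv (A →ₗ[k] C)) :
    pushL φ (d * e) = pushL φ d * pushL φ e := by
  apply WithConv.ofConv_injective
  exact LinearMap.algHom_comp_convMul_distrib φ d e

lemma pushL_lin (φ : C →ₐ[k] D) (g : WithConv (A →ₐ[k] C)) :
    pushL φ (lin g) = lin (mapPt φ g) := rfl

section Dual

/-- the base point of a point with values in the dual numbers -/
noncomputable def bPart : WithConv (A →ₐ[k] DualNumber C) →* WithConv (A →ₐ[k] C) :=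
  mapPt (TrivSqZeroExt.fstHom k C C)

/-- the tangent part of a point with values in the dual numbers -/
noncomputable def dPart (φ : WithConv (A →ₐ[k] DualNumber C)) : WithConv (A →ₗ[k] C) :=
  toConv ((TrivSqZeroExt.sndHom C C).restrictScalars k ∘ₗ φ.ofConv.toLinearMap)

lemma bPart_apply (φ : WithConv (A →ₐ[k] DualNumber C)) (a : A) :
    (bPart φ).ofConv a = (φ.ofConv a).fst := rfl

lemma dPart_apply (φ : WithConv (A →ₐ[k] DualNumber C)) (a : A) :
    (dPart φ).ofConv a = (φ.ofConv a).snd := rfl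

lemma dPart_mul (φ ψ : WithConv (A →ₐ[k] DualNumber C)) :
    dPart (φ * ψ) = lin (bPart φ) * dPart ψ + dPart φ * lin (bPart ψ) := by
  apply WithConv.ofConv_injective
  ext a
  rw [dPart_apply, AlgHom.convMul_def]
  change (Algebra.TensorProduct.lmul' k (Algebra.TensorProduct.map φ.ofConv ψ.ofConv
    (Coalgebra.comul a))).snd =
    LinearMap.mul' k C (TensorProduct.map (lin (bPart φ)).ofConv (dPart ψ).ofConv
      (Coalgebra.comul a)) +
    LinearMap.mul' k C (TensorProduct.map (dPart φ).ofConv (lin (bPart ψ)).ofConv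
      (Coalgebra.comul a))
  generalize (Coalgebra.comul a : A ⊗[k] A) = z
  induction z using TensorProduct.induction_on with
  | zero => simp
  | tmul x y =>
    simp only [Algebra.TensorProduct.map_tmul, Algebra.TensorProduct.lmul'_apply_tmul,
      TensorProduct.map_tmul, LinearMap.mul'_apply, TrivSqZeroExt.snd_mul, lin_apply, bPart_apply,
      dPart_apply, smul_eq_mul, MulOpposite.smul_eq_mul_unop, MulOpposite.unop_op]
  | add x y hx hy =>
    simp only [map_add, TrivSqZeroExt.snd_add, hx, hy]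
    abel

/-- constant points -/
noncomputable def cPt : WithConv (A →ₐ[k] C) →* WithConv (A →ₐ[k] DualNumber C) :=
  mapPt (TrivSqZeroExt.inlAlgHom k C C)

lemma bPart_cPt (g : WithConv (A →ₐ[k] C)) : bPart (cPt g) = g := rfl

lemma dPart_cPt (g : WithConv (A →ₐ[k] C)) : dPart (cPt g) = 0 := rfl

lemma dPart_conj (g h : WithConv (A →ₐ[k] C)) (φ : WithConv (A →ₐ[k] DualNumber C)) :
    dPart (cPt g * φ * cPt h) = lin g * dPart φ * lin h := by
  rw [dPart_mul, dPart_mul, dPart_cPt, dPart_cPt, bPart_cPt, bPart_cPt, mul_zero, zero_mul,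
    zero_add, add_zero]

/-- the point `1 + ε d` -/
noncomputable def dualPt (d : A →ₗ[k] C) (hd : IsDer d) : WithConv (A →ₐ[k] DualNumber C) :=
  toConv (AlgHom.ofLinearMap
    { toFun := fun a => TrivSqZeroExt.inl (algebraMap k C (Coalgebra.counit a)) +
        TrivSqZeroExt.inr (d a)
      map_add' := fun a b => by
        ext <;> simp
      map_smul' := fun c a => by
        ext
        · simp only [map_smul, TrivSqZeroExt.fst_add, TrivSqZeroExt.fst_inl, TrivSqZeroExt.fst_inr,
            add_zero, TrivSqZeroExt.fst_smul, RingHom.id_apply, smul_eq_mul, map_mul]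
          rw [Algebra.smul_def]
        · simp }
    (by
      have h1 := hd 1 1
      rw [mul_one, Bialgebra.counit_one, RingHom.map_one, _root_.one_mul] at h1
      have h2 : d 1 = 0 := by simpa using h1
      ext <;> simp [h2])
    (fun a b => by
      ext
      · simp
      · simp only [LinearMap.coe_mk, AddHom.coe_mk, TrivSqZeroExt.snd_add, TrivSqZeroExt.snd_inl,
          TrivSqZeroExt.snd_inr, zero_add, TrivSqZeroExt.snd_mul, TrivSqZeroExt.fst_add,
          TrivSqZeroExt.fst_inl, TrivSqZeroExt.fst_inr, add_zero, smul_eq_mul,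
          MulOpposite.smul_eq_mul_unop, MulOpposite.unop_op]
        rw [hd a b, mul_comm (d a)]))

lemma dualPt_apply (d : A →ₗ[k] C) (hd : IsDer d) (a : A) :
    (dualPt d hd).ofConv a = TrivSqZeroExt.inl (algebraMap k C (Coalgebra.counit a)) +
        TrivSqZeroExt.inr (d a) := rfl

lemma bPart_dualPt (d : A →ₗ[k] C) (hd : IsDer d) : bPart (dualPt d hd) = 1 := by
  apply WithConv.ofConv_injective
  ext a
  rw [bPart_apply, dualPt_apply]
  simp

lemma dPart_dualPt (d : A →ₗ[k] C) (hd : IsDer d) : (dPart (dualPt d hd)).ofConv = d := by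
  ext a
  rw [dPart_apply, dualPt_apply]
  simp

lemma isDer_dPart (φ : WithConv (A →ₐ[k] DualNumber C)) (h : bPart φ = 1) :
    IsDer (dPart φ).ofConv := by
  intro a b
  have e : ∀ a, (φ.ofConv a).fst = algebraMap k C (Coalgebra.counit a) := fun a => by
    rw [← bPart_apply, h]
    rfl
  rw [dPart_apply, dPart_apply, dPart_apply, map_mul, TrivSqZeroExt.snd_mul, e, e, smul_eq_mul,
    MulOpposite.smul_eq_mul_unop, MulOpposite.unop_op, mul_comm (φ.ofConv a).snd]

end Dual

section Ad

/-- the adjoint action on linear maps -/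
noncomputable def Ad (g : WithConv (A →ₐ[k] C)) (d : WithConv (A →ₗ[k] C)) :
    WithConv (A →ₗ[k] C) := lin g * d * lin g⁻¹

lemma Ad_mul (g h : WithConv (A →ₐ[k] C)) (d : WithConv (A →ₗ[k] C)) :
    Ad (g * h) d = Ad g (Ad h d) := by
  simp only [Ad, map_mul, mul_inv_rev, mul_assoc]

lemma Ad_one (d : WithConv (A →ₗ[k] C)) : Ad (1 : WithConv (A →ₐ[k] C)) d = d := by
  simp [Ad]

lemma Ad_smul (g : WithConv (A →ₐ[k] C)) (c : C) (d : WithConv (A →ₗ[k] C)) :
    Ad g (c • d) = c • Ad g d := by
  rw [Ad, Ad, mul_smul_comm, smul_mul_assoc]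

lemma Ad_add (g : WithConv (A →ₐ[k] C)) (d e : WithConv (A →ₗ[k] C)) :
    Ad g (d + e) = Ad g d + Ad g e := by
  rw [Ad, Ad, Ad, mul_add, add_mul]

lemma Ad_sum (g : WithConv (A →ₐ[k] C)) {ι : Type*} (s : Finset ι)
    (d : ι → WithConv (A →ₗ[k] C)) : Ad g (∑ i ∈ s, d i) = ∑ i ∈ s, Ad g (d i) := by
  rw [Ad, Finset.mul_sum, Finset.sum_mul]
  rfl

lemma pushL_Ad (φ : C →ₐ[k] D) (g : WithConv (A →ₐ[k] C)) (d : WithConv (A →ₗ[k] C)) :
    pushL φ (Ad g d) = Ad (mapPt φ g) (pushL φ d) := by
  rw [Ad, pushL_mul, pushL_mul, pushL_lin, pushL_lin, map_inv, Ad]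

lemma Ad_eq_dPart (g : WithConv (A →ₐ[k] C)) (d : A →ₗ[k] C) (hd : IsDer d) :
    Ad g (toConv d) = dPart (cPt g * dualPt d hd * (cPt g)⁻¹) := by
  rw [← map_inv, dPart_conj]
  have h : dPart (dualPt d hd) = toConv d := by
    apply WithConv.ofConv_injective
    exact dPart_dualPt d hd
  rw [h]
  rfl

lemma bPart_conj (g : WithConv (A →ₐ[k] C)) (d : A →ₗ[k] C) (hd : IsDer d) :
    bPart (cPt g * dualPt d hd * (cPt g)⁻¹) = 1 := by
  rw [map_mul, map_mul, bPart_dualPt, ← map_inv, bPart_cPt, bPart_cPt, mul_one, mul_inv_cancel]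

lemma isDer_Ad (g : WithConv (A →ₐ[k] C)) (d : A →ₗ[k] C) (hd : IsDer d) :
    IsDer (Ad g (toConv d)).ofConv := by
  rw [Ad_eq_dPart g d hd]
  exact isDer_dPart _ (bPart_conj g d hd)

end Ad

end Groth.Agent.RedSub.H650.AdPart
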