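import Groth.Agent.RedSub.H650.AdPart
import Mathlib.LinearAlgebra.Matrix.NonsingularInverse

/-!
# The determinant of the block of weights `≥ 0` of the adjoint action

`Frame lam`: a homogeneous dual basis of the cotangent space at the identity.  `f` is the determinant of the block of
weights `≥ 0` of the adjoint action: it is multiplicative under right translations by `P_G(λ)` and left
translations by `U_G(-λ)`.
-/

set_option autoImplicit false

open TensorProduct WithConv LaurentPolynomial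

universe u

namespace Groth.Agent.RedSub.H650

open Groth.Agent.Books.DynBasic Groth.Agent.Books.DynLim AdPart

variable {k : Type u} [CommRing k] {A : Type u} [CommRing A] [HopfAlgebra k A]

/-- A homogeneous dual basis of the cotangent space at the identity. -/
structure Frame (lam : A →ₐc[k] k[T;T⁻¹]) where
  /-- the number of elements -/
  n : ℕ
  /-- the weights -/
  w : Fin n → ℤ
  /-- the functions -/
  e : Fin n → A
  /-- the derivations -/
  d : Fin n → A →ₗ[k] k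
  e_mem : ∀ i, e i ∈ gr lam (w i)
  e_counit : ∀ i, Coalgebra.counit (R := k) (e i) = 0
  d_der : ∀ i, IsDer (d i)
  d_gr : ∀ i m, m ≠ w i → ∀ a ∈ gr lam m, d i a = 0
  span : ∀ a, a - algebraMap k A (Coalgebra.counit a) - ∑ j, d j a • e j ∈
    (RingHom.ker (Bialgebra.counitAlgHom k A)) ^ 2

namespace Frame

variable {lam : A →ₐc[k] k[T;T⁻¹]} (F : Frame lam)
variable {C : Type u} [CommRing C] [Algebra k C]
variable {D : Type u} [CommRing D] [Algebra k D]

/-- the derivations with values in `C` -/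
noncomputable def dC (C : Type u) [CommRing C] [Algebra k C] (i : Fin F.n) : A →ₗ[k] C :=
  Algebra.linearMap k C ∘ₗ F.d i

lemma dC_apply (i : Fin F.n) (a : A) : F.dC C i a = algebraMap k C (F.d i a) := rfl

lemma isDer_dC (i : Fin F.n) : IsDer (F.dC C i) := by
  intro a b
  rw [dC_apply, F.d_der i a b, map_add, map_mul, map_mul]
  rfl

lemma pushL_dC (φ : C →ₐ[k] D) (i : Fin F.n) :
    pushL φ (toConv (F.dC C i)) = toConv (F.dC D i) := by
  apply WithConv.ofConv_injective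
  ext a
  change φ (algebraMap k C (F.d i a)) = algebraMap k D (F.d i a)
  rw [AlgHom.commutes]

omit [HopfAlgebra k A] in
lemma der_eq_zero_of_sq [Bialgebra k A] (δ : A →ₗ[k] C)
    (hδ : ∀ a b, δ (a * b) = algebraMap k C (Coalgebra.counit a) * δ b +
    algebraMap k C (Coalgebra.counit b) * δ a) (a : A)
    (ha : a ∈ (RingHom.ker (Bialgebra.counitAlgHom k A)) ^ 2) : δ a = 0 := by
  rw [pow_two] at ha
  induction ha using Submodule.mul_induction_on' with
  | mem_mul_mem x hx y hy =>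
    have h1 : Coalgebra.counit (R := k) x = 0 := hx
    have h2 : Coalgebra.counit (R := k) y = 0 := hy
    rw [hδ, h1, h2, map_zero, zero_mul, zero_mul, add_zero]
  | add x _ y _ hx hy => rw [map_add, hx, hy, add_zero]

lemma der_one (δ : A →ₗ[k] C) (hδ : IsDer δ) : δ 1 = 0 := by
  have h1 := hδ 1 1
  rw [mul_one, Bialgebra.counit_one, RingHom.map_one, _root_.one_mul] at h1
  simpa using h1

/-- expansion of a derivation -/
lemma der_apply (δ : A →ₗ[k] C) (hδ : IsDer δ) (a : A) :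
    δ a = ∑ j, algebraMap k C (F.d j a) * δ (F.e j) := by
  have h1 := der_eq_zero_of_sq δ hδ _ (F.span a)
  rw [map_sub, map_sub, Algebra.algebraMap_eq_smul_one, map_smul, der_one δ hδ, smul_zero, sub_zero,
    sub_eq_zero, map_sum] at h1
  rw [h1]
  refine Finset.sum_congr rfl fun j _ => ?_
  rw [map_smul, Algebra.smul_def]

lemma der_eq_sum (δ : A →ₗ[k] C) (hδ : IsDer δ) :
    toConv δ = ∑ j, δ (F.e j) • toConv (F.dC C j) := by
  apply WithConv.ofConv_injective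
  ext a
  rw [WithConv.ofConv_sum, LinearMap.sum_apply, WithConv.ofConv_toConv, F.der_apply δ hδ]
  refine Finset.sum_congr rfl fun j _ => ?_
  change _ = δ (F.e j) * F.dC C j a
  rw [dC_apply, mul_comm]

/-- the matrix of the adjoint action: `M g j i` is the `j`-th coordinate of `Ad g d_i`. -/
noncomputable def M (g : WithConv (A →ₐ[k] C)) : Matrix (Fin F.n) (Fin F.n) C :=
  Matrix.of fun j i => (Ad g (toConv (F.dC C i))).ofConv (F.e j)

lemma M_apply (g : WithConv (A →ₐ[k] C)) (j i : Fin F.n) :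
    F.M g j i = (Ad g (toConv (F.dC C i))).ofConv (F.e j) := rfl

lemma Ad_dC (g : WithConv (A →ₐ[k] C)) (i : Fin F.n) :
    Ad g (toConv (F.dC C i)) = ∑ j, F.M g j i • toConv (F.dC C j) :=
  F.der_eq_sum _ (isDer_Ad g _ (F.isDer_dC i))

lemma Ad_der_apply (g : WithConv (A →ₐ[k] C)) (δ : A →ₗ[k] C) (hδ : IsDer δ) (m : Fin F.n) :
    (Ad g (toConv δ)).ofConv (F.e m) = ∑ j, F.M g m j * δ (F.e j) := by
  rw [F.der_eq_sum δ hδ, Ad_sum, WithConv.ofConv_sum, LinearMap.sum_apply]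
  refine Finset.sum_congr rfl fun j _ => ?_
  rw [Ad_smul]
  change δ (F.e j) * (Ad g (toConv (F.dC C j))).ofConv (F.e m) = _
  rw [mul_comm]
  rfl

lemma M_mul (g h : WithConv (A →ₐ[k] C)) : F.M (g * h) = F.M g * F.M h := by
  ext m i
  rw [M_apply, Ad_mul, Matrix.mul_apply]
  exact F.Ad_der_apply g _ (isDer_Ad h _ (F.isDer_dC i)) m

lemma M_mapPt (φ : C →ₐ[k] D) (g : WithConv (A →ₐ[k] C)) :
    F.M (mapPt φ g) = (F.M g).map φ := by
  ext j i
  rw [M_apply, ← F.pushL_dC φ i, ← pushL_Ad]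
  rfl

lemma M_one_apply (j i : Fin F.n) :
    F.M (1 : WithConv (A →ₐ[k] C)) j i = algebraMap k C (F.d i (F.e j)) := by
  rw [M_apply, Ad_one]
  rfl

section Weights

variable (lamNeg : A →ₐc[k] k[T;T⁻¹])
  (hneg : (lamNeg : A →ₐ[k] k[T;T⁻¹]) = Dyn.negParam k A lam)

lemma d_pr_ne (i : Fin F.n) (m : ℤ) (hm : m ≠ F.w i) (a : A) : F.d i (pr lam m a) = 0 :=
  F.d_gr i m hm _ (pr_mem_gr lam m a)

lemma mem_PSub_iff (g : WithConv (A →ₐ[k] C)) :
    g ∈ PSub lam C ↔ ∀ n < 0, ∀ a, g.ofConv (pr lam n a) = 0 := by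
  rw [mem_PSub, limExists_iff]

include hneg in
lemma mem_USub_neg_iff (g : WithConv (A →ₐ[k] C)) :
    g ∈ USub lamNeg C ↔ (∀ n > 0, ∀ a, g.ofConv (pr lam n a) = 0) ∧
      ∀ a, g.ofConv (pr lam 0 a) = algebraMap k C (Coalgebra.counit a) := by
  rw [mem_USub, limIsOne_iff]
  simp only [pr_neg lam lamNeg hneg, neg_zero]
  refine and_congr_left fun _ => ?_
  constructor
  · intro h n hn a
    have := h (-n) (by omega) a
    rwa [neg_neg] at this
  · intro h n hn a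
    exact h (-n) (by omega) a

lemma dualPt_pr (δ : A →ₗ[k] C) (hδ : IsDer δ) (m : ℤ) (a : A) :
    (dualPt δ hδ).ofConv (pr lam m a) =
      TrivSqZeroExt.inl (algebraMap k C (if m = 0 then Coalgebra.counit a else 0)) +
        TrivSqZeroExt.inr (δ (pr lam m a)) := by
  rw [dualPt_apply, counit_pr]

lemma dualPt_mem_PSub (δ : A →ₗ[k] C) (hδ : IsDer δ) (h : ∀ m < 0, ∀ a, δ (pr lam m a) = 0) :
    dualPt δ hδ ∈ PSub lam (DualNumber C) := by
  rw [mem_PSub_iff]
  intro n hn a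
  rw [dualPt_pr, if_neg hn.ne, map_zero, h n hn, TrivSqZeroExt.inl_zero, TrivSqZeroExt.inr_zero,
    add_zero]

include hneg in
lemma dualPt_mem_USub (δ : A →ₗ[k] C) (hδ : IsDer δ) (h : ∀ m ≥ 0, ∀ a, δ (pr lam m a) = 0) :
    dualPt δ hδ ∈ USub lamNeg (DualNumber C) := by
  rw [mem_USub_neg_iff lamNeg hneg]
  refine ⟨fun n hn a => ?_, fun a => ?_⟩
  · rw [dualPt_pr, if_neg hn.ne', map_zero, h n hn.le, TrivSqZeroExt.inl_zero,
      TrivSqZeroExt.inr_zero, add_zero]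
  · rw [dualPt_pr, if_pos rfl, h 0 le_rfl, TrivSqZeroExt.inr_zero, add_zero]
    rfl

lemma mapPt_mem_PSub (φ : C →ₐ[k] D) (g : WithConv (A →ₐ[k] C)) (hg : g ∈ PSub lam C) :
    mapPt φ g ∈ PSub lam D := by
  rw [mem_PSub_iff] at hg ⊢
  intro n hn a
  rw [mapPt_apply, hg n hn, map_zero]

include hneg in
lemma mapPt_mem_USub (φ : C →ₐ[k] D) (g : WithConv (A →ₐ[k] C)) (hg : g ∈ USub lamNeg C) :
    mapPt φ g ∈ USub lamNeg D := by
  rw [mem_USub_neg_iff lamNeg hneg] at hg ⊢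
  refine ⟨fun n hn a => ?_, fun a => ?_⟩
  · rw [mapPt_apply, hg.1 n hn, map_zero]
  · rw [mapPt_apply, hg.2, AlgHom.commutes]

/-- `P_G(λ)` preserves the part of weights `≥ 0` of the Lie algebra -/
lemma Ad_der_of_mem_PSub (p : WithConv (A →ₐ[k] C)) (hp : p ∈ PSub lam C) (δ : A →ₗ[k] C)
    (hδ : IsDer δ) (h : ∀ m < 0, ∀ a, δ (pr lam m a) = 0) (m : ℤ) (hm : m < 0) (a : A) :
    (Ad p (toConv δ)).ofConv (pr lam m a) = 0 := by
  rw [Ad_eq_dPart p δ hδ, dPart_apply]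
  have h1 : cPt p * dualPt δ hδ * (cPt p)⁻¹ ∈ PSub lam (DualNumber C) :=
    mul_mem (mul_mem (mapPt_mem_PSub _ p hp) (dualPt_mem_PSub δ hδ h))
      (inv_mem (mapPt_mem_PSub _ p hp))
  rw [mem_PSub_iff] at h1
  rw [h1 m hm]
  rfl

include hneg in
/-- `U_G(-λ)` preserves the part of weights `< 0` of the Lie algebra -/
lemma Ad_der_of_mem_USub (u : WithConv (A →ₐ[k] C)) (hu : u ∈ USub lamNeg C) (δ : A →ₗ[k] C)
    (hδ : IsDer δ) (h : ∀ m ≥ 0, ∀ a, δ (pr lam m a) = 0) (m : ℤ) (hm : 0 ≤ m) (a : A) :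
    (Ad u (toConv δ)).ofConv (pr lam m a) = 0 := by
  rw [Ad_eq_dPart u δ hδ, dPart_apply]
  have h1 : cPt u * dualPt δ hδ * (cPt u)⁻¹ ∈ USub lamNeg (DualNumber C) :=
    mul_mem (mul_mem (mapPt_mem_USub lamNeg hneg _ u hu) (dualPt_mem_USub lamNeg hneg δ hδ h))
      (inv_mem (mapPt_mem_USub lamNeg hneg _ u hu))
  rw [mem_USub_neg_iff lamNeg hneg] at h1
  rcases hm.lt_or_eq with hm | rfl
  · rw [h1.1 m hm]
    rfl
  · rw [h1.2 a]
    rfl

lemma dC_pr_ne (i : Fin F.n) (m : ℤ) (hm : m ≠ F.w i) (a : A) : F.dC C i (pr lam m a) = 0 := by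
  rw [dC_apply, F.d_pr_ne i m hm, map_zero]

lemma M_of_mem_PSub (p : WithConv (A →ₐ[k] C)) (hp : p ∈ PSub lam C) (j i : Fin F.n)
    (hj : F.w j < 0) (hi : 0 ≤ F.w i) : F.M p j i = 0 := by
  rw [M_apply, ← pr_of_mem_same lam (F.e_mem j)]
  exact Ad_der_of_mem_PSub p hp _ (F.isDer_dC i) (fun m hm a => F.dC_pr_ne i m (by omega) a) _ hj _

include hneg in
lemma M_of_mem_USub (u : WithConv (A →ₐ[k] C)) (hu : u ∈ USub lamNeg C) (j i : Fin F.n)
    (hj : 0 ≤ F.w j) (hi : F.w i < 0) : F.M u j i = 0 := by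
  rw [M_apply, ← pr_of_mem_same lam (F.e_mem j)]
  exact Ad_der_of_mem_USub lamNeg hneg u hu _ (F.isDer_dC i)
    (fun m hm a => F.dC_pr_ne i m (by omega) a) _ hj _

end Weights

section Block

/-- the indices of weight `≥ 0` -/
abbrev Pl : Type := {i : Fin F.n // 0 ≤ F.w i}

/-- the block of weights `≥ 0` -/
noncomputable def Mpp (g : WithConv (A →ₐ[k] C)) : Matrix F.Pl F.Pl C :=
  (F.M g).submatrix Subtype.val Subtype.val

lemma Mpp_apply (g : WithConv (A →ₐ[k] C)) (j i : F.Pl) : F.Mpp g j i = F.M g j.1 i.1 := rfl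

lemma Mpp_mul (g h : WithConv (A →ₐ[k] C))
    (H : ∀ j i m : Fin F.n, 0 ≤ F.w j → 0 ≤ F.w i → F.w m < 0 → F.M g j m * F.M h m i = 0) :
    F.Mpp (g * h) = F.Mpp g * F.Mpp h := by
  ext j i
  rw [Mpp_apply, M_mul, Matrix.mul_apply, Matrix.mul_apply]
  rw [← Fintype.sum_subtype_add_sum_subtype (fun m : Fin F.n => 0 ≤ F.w m)]
  rw [add_eq_left.2]
  · rfl
  · refine Finset.sum_eq_zero fun m _ => ?_
    exact H _ _ _ j.2 i.2 (by simpa using m.2)

lemma Mpp_mul_right (g p : WithConv (A →ₐ[k] C)) (hp : p ∈ PSub lam C) :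
    F.Mpp (g * p) = F.Mpp g * F.Mpp p :=
  F.Mpp_mul g p fun _ i m _ hi hm => by rw [F.M_of_mem_PSub p hp m i hm hi, mul_zero]

lemma Mpp_mul_left (lamNeg : A →ₐc[k] k[T;T⁻¹])
    (hneg : (lamNeg : A →ₐ[k] k[T;T⁻¹]) = Dyn.negParam k A lam) (u g : WithConv (A →ₐ[k] C))
    (hu : u ∈ USub lamNeg C) : F.Mpp (u * g) = F.Mpp u * F.Mpp g :=
  F.Mpp_mul u g fun j _ m hj _ hm => by rw [F.M_of_mem_USub lamNeg hneg u hu j m hj hm, zero_mul]

lemma M_one_ne (j i : Fin F.n) (h : F.w j ≠ F.w i) :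
    F.M (1 : WithConv (A →ₐ[k] C)) j i = 0 := by
  rw [M_one_apply, F.d_gr i _ h _ (F.e_mem j), map_zero]

lemma Mpp_mul_one (g : WithConv (A →ₐ[k] C)) : F.Mpp g * F.Mpp 1 = F.Mpp g := by
  rw [← Mpp_mul, mul_one]
  intro j i m _ hi hm
  rw [F.M_one_ne m i (by omega), mul_zero]

lemma Mpp_one_mul (g : WithConv (A →ₐ[k] C)) : F.Mpp 1 * F.Mpp g = F.Mpp g := by
  rw [← Mpp_mul, one_mul]
  intro j i m hj _ hm
  rw [F.M_one_ne j m (by omega), zero_mul]

/-- the block of weights `≥ 0`, completed -/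
noncomputable def N (g : WithConv (A →ₐ[k] C)) : Matrix F.Pl F.Pl C :=
  F.Mpp g + (1 - F.Mpp 1)

lemma N_one : F.N (1 : WithConv (A →ₐ[k] C)) = 1 := by
  rw [N]
  abel

lemma N_mul (g h : WithConv (A →ₐ[k] C)) (H : F.Mpp (g * h) = F.Mpp g * F.Mpp h) :
    F.N (g * h) = F.N g * F.N h := by
  have h1 : F.Mpp g * (1 - F.Mpp 1) = 0 := by rw [mul_sub, mul_one, Mpp_mul_one, sub_self]
  have h2 : (1 - F.Mpp 1) * F.Mpp h = 0 := by rw [sub_mul, one_mul, Mpp_one_mul, sub_self]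
  have h3 : (1 - F.Mpp 1) * (1 - F.Mpp (1 : WithConv (A →ₐ[k] C))) = 1 - F.Mpp 1 := by
    rw [mul_sub, mul_one, sub_mul, one_mul, Mpp_mul_one, sub_self, sub_zero]
  rw [N, N, N, H, add_mul, mul_add, mul_add, h1, h2, h3]
  abel

lemma N_mapPt (φ : C →ₐ[k] D) (g : WithConv (A →ₐ[k] C)) :
    F.N (mapPt φ g) = (F.N g).map φ := by
  have h1 : F.Mpp (mapPt φ g) = (F.Mpp g).map φ := by
    ext j i
    rw [Mpp_apply, M_mapPt]
    rfl
  have h2 : F.Mpp (1 : WithConv (A →ₐ[k] D)) = (F.Mpp (1 : WithConv (A →ₐ[k] C))).map φ := by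
    ext j i
    rw [Matrix.map_apply, Mpp_apply, Mpp_apply, M_one_apply, M_one_apply, AlgHom.commutes]
  rw [N, N, h1, h2, Matrix.map_add _ (map_add φ), Matrix.map_sub _ (map_sub φ),
    Matrix.map_one _ (map_zero φ) (map_one φ)]

/-- the value of the function `f` at a point -/
noncomputable def fv (g : WithConv (A →ₐ[k] C)) : C := (F.N g).det

lemma fv_mapPt (φ : C →ₐ[k] D) (g : WithConv (A →ₐ[k] C)) : F.fv (mapPt φ g) = φ (F.fv g) := by
  rw [fv, N_mapPt, fv]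
  exact ((φ : C →+* D).map_det (F.N g)).symm

/-- the determinant of the block of weights `≥ 0` of the adjoint action, as a function on `G` -/
noncomputable def f : A := F.fv (toConv (AlgHom.id k A))

lemma apply_f (g : WithConv (A →ₐ[k] C)) : g.ofConv F.f = F.fv g :=
  (F.fv_mapPt g.ofConv (toConv (AlgHom.id k A))).symm

lemma fv_one : F.fv (1 : WithConv (A →ₐ[k] C)) = 1 := by
  rw [fv, N_one, Matrix.det_one]

lemma counit_f : Coalgebra.counit (R := k) F.f = 1 := by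
  have := F.apply_f (1 : WithConv (A →ₐ[k] k))
  rw [fv_one] at this
  exact this

lemma mul_apply_f (g p : WithConv (A →ₐ[k] C)) (hp : p ∈ PSub lam C) :
    (g * p).ofConv F.f = g.ofConv F.f * p.ofConv F.f := by
  rw [apply_f, apply_f, apply_f, fv, F.N_mul g p (F.Mpp_mul_right g p hp), Matrix.det_mul]
  rfl

variable (lamNeg : A →ₐc[k] k[T;T⁻¹])
  (hneg : (lamNeg : A →ₐ[k] k[T;T⁻¹]) = Dyn.negParam k A lam)

include hneg in
lemma mul_apply_f' (u g : WithConv (A →ₐ[k] C)) (hu : u ∈ USub lamNeg C) :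
    (u * g).ofConv F.f = u.ofConv F.f * g.ofConv F.f := by
  rw [apply_f, apply_f, apply_f, fv, F.N_mul u g (F.Mpp_mul_left lamNeg hneg u g hu),
    Matrix.det_mul]
  rfl

lemma isUnit_apply_f (p : WithConv (A →ₐ[k] C)) (hp : p ∈ PSub lam C) :
    IsUnit (p.ofConv F.f) := by
  have h1 := F.mul_apply_f p p⁻¹ (inv_mem hp)
  rw [mul_inv_cancel, apply_f, fv_one] at h1
  exact IsUnit.of_mul_eq_one _ h1.symm

include hneg in
lemma isUnit_apply_f' (u : WithConv (A →ₐ[k] C)) (hu : u ∈ USub lamNeg C) :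
    IsUnit (u.ofConv F.f) := by
  have h1 := F.mul_apply_f' lamNeg hneg u u⁻¹ hu
  rw [mul_inv_cancel, apply_f, fv_one] at h1
  exact IsUnit.of_mul_eq_one _ h1.symm

/-- The differential of `(u, p) ↦ u g p` at `(1, 1)` is injective if `f(g)` is invertible. -/
lemma der_eq_zero_of_isUnit (g : WithConv (A →ₐ[k] C)) (hg : IsUnit (g.ofConv F.f))
    (d₁ d₂ : A →ₗ[k] C) (h₁ : IsDer d₁) (h₂ : IsDer d₂)
    (w₁ : ∀ m ≥ 0, ∀ a, d₁ (pr lam m a) = 0) (w₂ : ∀ m < 0, ∀ a, d₂ (pr lam m a) = 0)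
    (H : toConv d₁ * lin g + lin g * toConv d₂ = 0) : d₁ = 0 ∧ d₂ = 0 := by
  have e1 : toConv d₁ = -Ad g (toConv d₂) := by
    have h3 : toConv d₁ * lin g * lin g⁻¹ + lin g * toConv d₂ * lin g⁻¹ = 0 := by
      rw [← add_mul, H, zero_mul]
    rw [mul_assoc, ← map_mul, mul_inv_cancel, map_one, mul_one] at h3
    exact eq_neg_of_add_eq_zero_left h3
  let x : F.Pl → C := fun j => d₂ (F.e j.1)
  have hx : ∀ m : F.Pl, ∑ j : F.Pl, F.Mpp g m j * x j = 0 := by
    intro m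
    have h4 : (Ad g (toConv d₂)).ofConv (F.e m.1) = 0 := by
      have h5 := DFunLike.congr_fun (congrArg WithConv.ofConv e1) (F.e m.1)
      have h6 : d₁ (F.e m.1) = 0 := by
        rw [← pr_of_mem_same lam (F.e_mem m.1)]
        exact w₁ _ m.2 _
      rw [WithConv.ofConv_toConv, h6, WithConv.ofConv_neg, LinearMap.neg_apply] at h5
      exact neg_eq_zero.1 h5.symm
    rw [F.Ad_der_apply g d₂ h₂, ← Fintype.sum_subtype_add_sum_subtype
      (fun m : Fin F.n => 0 ≤ F.w m)] at h4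
    rw [← h4]
    refine (add_eq_left.2 ?_).symm
    refine Finset.sum_eq_zero fun j _ => ?_
    rw [← pr_of_mem_same lam (F.e_mem j.1), w₂ _ (by simpa using j.2), mul_zero]
  have hx1 : ∀ m : F.Pl, ∑ j : F.Pl, F.Mpp (1 : WithConv (A →ₐ[k] C)) m j * x j = x m := by
    intro m
    have h4 := F.Ad_der_apply (1 : WithConv (A →ₐ[k] C)) d₂ h₂ m.1
    rw [Ad_one, ← Fintype.sum_subtype_add_sum_subtype
      (fun m : Fin F.n => 0 ≤ F.w m)] at h4
    refine Eq.trans ?_ h4.symm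
    refine (add_eq_left.2 ?_).symm
    refine Finset.sum_eq_zero fun j _ => ?_
    rw [← pr_of_mem_same lam (F.e_mem j.1), w₂ _ (by simpa using j.2), mul_zero]
  have hN : (F.N g).mulVec x = 0 := by
    have h1 : (F.Mpp g).mulVec x = 0 := by
      ext m
      exact hx m
    have h2 : (F.Mpp (1 : WithConv (A →ₐ[k] C))).mulVec x = x := by
      ext m
      exact hx1 m
    rw [N, Matrix.add_mulVec, Matrix.sub_mulVec, Matrix.one_mulVec, h1, h2, sub_self, add_zero]
  have hx0 : x = 0 := by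
    have hu : IsUnit (F.N g).det := by
      rwa [apply_f] at hg
    have h5 := congrArg (F.N g)⁻¹.mulVec hN
    rwa [Matrix.mulVec_mulVec, Matrix.nonsing_inv_mul _ hu, Matrix.one_mulVec,
      Matrix.mulVec_zero] at h5
  have hd₂ : d₂ = 0 := by
    ext a
    rw [F.der_apply d₂ h₂ a, LinearMap.zero_apply]
    refine Finset.sum_eq_zero fun j _ => ?_
    by_cases hj : 0 ≤ F.w j
    · have : d₂ (F.e j) = 0 := congrFun hx0 ⟨j, hj⟩
      rw [this, mul_zero]
    · rw [← pr_of_mem_same lam (F.e_mem j), w₂ _ (by omega), mul_zero]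
  refine ⟨?_, hd₂⟩
  subst hd₂
  have h7 : toConv d₁ = 0 := by
    rw [e1, Ad]
    simp
  exact congrArg WithConv.ofConv h7

end Block

end Frame

end Groth.Agent.RedSub.H650
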