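import Groth.Agent.RedSub.H650.EtPts
import Groth.Agent.RedSub.H650.Frame

/-!
# The open cell `U_G(-λ) P_G(λ)` is the locus where the function `f` is invertible

Points with values in algebraically closed fields.
-/

set_option autoImplicit false

open TensorProduct WithConv LaurentPolynomial

universe u

namespace Groth.Agent.RedSub.H650.CellEq

open Groth.Agent.Books.DynBasic Groth.Agent.Books.DynLim Groth.Agent.Books.DynOpen AdPart

section Gen

/-- universal property of the base change -/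
lemma exists_lift {k A : Type u} [CommRing k] [CommRing A] [Algebra k A] (K : Type u) [CommRing K] [Algebra k K]
    {Y : Type u} [CommRing Y] [Algebra k Y] [Algebra K Y] [IsScalarTower k K Y] (Φ : A →ₐ[k] Y) :
    ∃ φ : K ⊗[k] A →ₐ[K] Y, ∀ a, φ (Algebra.TensorProduct.includeRight a) = Φ a := by
  refine ⟨Algebra.TensorProduct.lift (Algebra.ofId K _) Φ (fun _ _ => Commute.all _ _), fun a => ?_⟩
  rw [Algebra.TensorProduct.includeRight_apply, Algebra.TensorProduct.lift_tmul, map_one, one_mul]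

variable {k : Type u} [CommRing k] {A C : Type u} [CommRing A] [CommRing C] [Algebra k A] [Algebra k C]

lemma smooth_of_etale [Algebra.Smooth k A] (c : A →ₐ[k] C) (hc : c.toRingHom.Etale) :
    Algebra.Smooth k C := by
  let := c.toRingHom.toAlgebra
  have : IsScalarTower k A C := .of_algebraMap_eq fun r => (c.commutes r).symm
  have : Algebra.Etale A C := hc
  exact Algebra.Smooth.comp k A C

lemma flat_of_etale (c : A →ₐ[k] C) (hc : c.toRingHom.Etale) : c.toRingHom.Flat := by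
  let := c.toRingHom.toAlgebra
  have : Algebra.Etale A C := hc
  exact inferInstanceAs (Module.Flat A C)

end Gen

variable {k : Type u} [CommRing k] {A : Type u} [CommRing A] [HopfAlgebra k A]
variable {C : Type u} [CommRing C] [Algebra k C] {D : Type u} [CommRing D] [Algebra k D]

lemma mapPt_fstPt {Jm Jp : Ideal A} (f : (A ⧸ Jm) ⊗[k] (A ⧸ Jp) →ₐ[k] C) (φ : C →ₐ[k] D) :
    mapPt φ (fstPt f) = fstPt (φ.comp f) := rfl

lemma mapPt_sndPt {Jm Jp : Ideal A} (f : (A ⧸ Jm) ⊗[k] (A ⧸ Jp) →ₐ[k] C) (φ : C →ₐ[k] D) :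
    mapPt φ (sndPt f) = sndPt (φ.comp f) := rfl

variable (lam lamNeg : A →ₐc[k] k[T;T⁻¹])

lemma fstPt_mem (f : (A ⧸ JU lamNeg) ⊗[k] (A ⧸ JP lam) →ₐ[k] C) : fstPt f ∈ USub lamNeg C := by
  rw [mem_USub, ← vanish_JU_iff]
  exact fstPt_vanish f

lemma sndPt_mem (f : (A ⧸ JU lamNeg) ⊗[k] (A ⧸ JP lam) →ₐ[k] C) : sndPt f ∈ PSub lam C := by
  rw [mem_PSub, ← vanish_JP_iff]
  exact sndPt_vanish f

/-- the point of the cell attached to a pair of points of the subgroups -/
noncomputable def mk (u p : WithConv (A →ₐ[k] C)) (hu : u ∈ USub lamNeg C) (hp : p ∈ PSub lam C) :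
    (A ⧸ JU lamNeg) ⊗[k] (A ⧸ JP lam) →ₐ[k] C :=
  mkPt u.ofConv p.ofConv ((vanish_JU_iff lamNeg _).2 ((mem_USub lamNeg _).1 hu))
    ((vanish_JP_iff lam _).2 ((mem_PSub lam _).1 hp))

lemma fstPt_mk (u p : WithConv (A →ₐ[k] C)) (hu : u ∈ USub lamNeg C) (hp : p ∈ PSub lam C) :
    fstPt (mk lam lamNeg u p hu hp) = u := fstPt_mkPt _ _ _ _

lemma sndPt_mk (u p : WithConv (A →ₐ[k] C)) (hu : u ∈ USub lamNeg C) (hp : p ∈ PSub lam C) :
    sndPt (mk lam lamNeg u p hu hp) = p := sndPt_mkPt _ _ _ _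

variable {lam lamNeg}

/-- the derivation hypothesis at the origin -/
theorem der_eq_zero (hneg : (lamNeg : A →ₐ[k] k[T;T⁻¹]) = Dyn.negParam k A lam) (F : Frame lam)
    (K : Type u) [Field K] [Algebra k K] (g : WithConv (A →ₐ[k] K)) (hg : g.ofConv F.f ≠ 0)
    (Y : Type u) [CommRing Y] [Algebra k Y] [Algebra K Y] [IsScalarTower k K Y]
    (incR : (A ⧸ JU lamNeg) ⊗[k] (A ⧸ JP lam) →ₐ[k] Y)
    (hinc : ∀ δ : Y →ₗ[K] K, (∀ c, δ (incR c) = 0) → δ = 0)
    (y₀ : Y →ₐ[K] K)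
    (h1 : fstPt ((y₀.restrictScalars k).comp incR) = 1)
    (h2 : sndPt ((y₀.restrictScalars k).comp incR) = 1)
    (δ : Y →ₗ[K] K) (hδ : ∀ a b, δ (a * b) = y₀ a * δ b + y₀ b * δ a)
    (H : ∀ a, δ ((fstPt incR * mapPt (IsScalarTower.toAlgHom k K Y) g * sndPt incR).ofConv a) = 0) :
    δ = 0 := by
  have hδ1 : δ 1 = 0 := by
    have h3 := hδ 1 1
    rw [mul_one, _root_.map_one y₀, one_mul] at h3
    simpa using h3
  let Ψ : Y →ₐ[k] DualNumber K :=
    AlgHom.ofLinearMap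
      { toFun := fun y => TrivSqZeroExt.inl (y₀ y) + TrivSqZeroExt.inr (δ y)
        map_add' := fun a b => by ext <;> simp
        map_smul' := fun c a => by
          have e1 : y₀ (c • a) = c • y₀ a := (y₀.restrictScalars k).toLinearMap.map_smul c a
          have e2 : δ (c • a) = c • δ a := (δ.restrictScalars k).map_smul c a
          ext <;> simp [e1, e2] }
      (by ext <;> simp [hδ1])
      (fun a b => by
        ext
        · simp
        · simp only [LinearMap.coe_mk, AddHom.coe_mk, TrivSqZeroExt.snd_add, TrivSqZeroExt.snd_inl,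
            TrivSqZeroExt.snd_inr, zero_add, TrivSqZeroExt.snd_mul, TrivSqZeroExt.fst_add,
            TrivSqZeroExt.fst_inl, TrivSqZeroExt.fst_inr, add_zero, smul_eq_mul,
            MulOpposite.smul_eq_mul_unop, MulOpposite.unop_op]
          rw [hδ a b, mul_comm (δ a)])
  have hΨ : ∀ y, Ψ y = TrivSqZeroExt.inl (y₀ y) + TrivSqZeroExt.inr (δ y) := fun _ => rfl
  set incL : K →ₐ[k] Y := IsScalarTower.toAlgHom k K Y with hincL
  have hΨg : mapPt Ψ (mapPt incL g) = cPt g := by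
    apply WithConv.ofConv_injective
    ext1 a
    change Ψ (algebraMap K Y (g.ofConv a)) = TrivSqZeroExt.inl (g.ofConv a)
    rw [hΨ, AlgHom.commutes, Algebra.algebraMap_eq_smul_one (A := Y), map_smul, hδ1,
      smul_zero, TrivSqZeroExt.inr_zero, add_zero]
    rfl
  have hb : ∀ x : WithConv (A →ₐ[k] Y),
      bPart (mapPt Ψ x) = mapPt (y₀.restrictScalars k) x := by
    intro x
    apply WithConv.ofConv_injective
    ext1 a
    change (Ψ (x.ofConv a)).fst = y₀ (x.ofConv a)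
    rw [hΨ]
    simp
  have hd : ∀ (x : WithConv (A →ₐ[k] Y)) (a : A),
      (dPart (mapPt Ψ x)).ofConv a = δ (x.ofConv a) := by
    intro x a
    change (Ψ (x.ofConv a)).snd = _
    rw [hΨ]
    simp
  have hbU : bPart (mapPt Ψ (fstPt incR)) = 1 := by rw [hb]; exact h1
  have hbP : bPart (mapPt Ψ (sndPt incR)) = 1 := by rw [hb]; exact h2
  have hU := fstPt_mem lam lamNeg (Ψ.comp incR)
  have hP := sndPt_mem lam lamNeg (Ψ.comp incR)
  rw [← mapPt_fstPt, Frame.mem_USub_neg_iff lamNeg hneg] at hU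
  rw [← mapPt_sndPt, Frame.mem_PSub_iff] at hP
  have key := F.der_eq_zero_of_isUnit g (isUnit_iff_ne_zero.2 hg) (dPart (mapPt Ψ (fstPt incR))).ofConv
    (dPart (mapPt Ψ (sndPt incR))).ofConv (isDer_dPart _ hbU) (isDer_dPart _ hbP)
    (fun m hm a => by
      rw [dPart_apply]
      rcases hm.lt_or_eq with hm | rfl
      · rw [hU.1 m hm]
        rfl
      · rw [hU.2 a]
        rfl)
    (fun m hm a => by
      rw [dPart_apply, hP m hm]
      rfl)
    (by
      have e4 : dPart (mapPt Ψ (fstPt incR * mapPt incL g * sndPt incR)) = 0 := by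
        apply WithConv.ofConv_injective
        ext a
        rw [hd]
        exact H a
      rw [map_mul, map_mul, hΨg, dPart_mul, dPart_mul, map_mul, hbU, hbP, dPart_cPt, bPart_cPt,
        map_one, one_mul, one_mul, mul_one, zero_add, add_comm] at e4
      exact e4)
  have k1 : ∀ b, δ (incR (b ⊗ₜ 1)) = 0 := by
    intro b
    obtain ⟨a, rfl⟩ := Ideal.Quotient.mk_surjective b
    have := LinearMap.congr_fun key.1 a
    rw [hd] at this
    exact this
  have k2 : ∀ b, δ (incR (1 ⊗ₜ b)) = 0 := by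
    intro b
    obtain ⟨a, rfl⟩ := Ideal.Quotient.mk_surjective b
    have := LinearMap.congr_fun key.2 a
    rw [hd] at this
    exact this
  apply hinc
  intro c
  induction c using TensorProduct.induction_on with
  | zero => rw [map_zero, map_zero]
  | tmul x y =>
    have e5 : (x ⊗ₜ[k] y : (A ⧸ JU lamNeg) ⊗[k] (A ⧸ JP lam)) = x ⊗ₜ 1 * 1 ⊗ₜ y := by
      rw [Algebra.TensorProduct.tmul_mul_tmul, mul_one, one_mul]
    rw [e5, map_mul, hδ, k1, k2, mul_zero, mul_zero, add_zero]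
  | add x y hx hy => rw [map_add, map_add, hx, hy, add_zero]

/-- Over an algebraically closed field the open cell is the locus `f ≠ 0`, abstract form. -/
theorem exists_factor_aux (hneg : (lamNeg : A →ₐ[k] k[T;T⁻¹]) = Dyn.negParam k A lam) (F : Frame lam)
    (K : Type u) [Field K] [IsAlgClosed K] [Algebra k K]
    (g : WithConv (A →ₐ[k] K)) (hg : g.ofConv F.f ≠ 0)
    (X Y : Type u) [CommRing X] [IsDomain X] [CommRing Y] [Algebra k Y] [Algebra K Y] [IsScalarTower k K Y]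
    [Algebra k X] [Algebra K X] [IsScalarTower k K X] [Algebra.Smooth K X] [Algebra.Smooth K Y]
    (incA : A →ₐ[k] X)
    (incR : (A ⧸ JU lamNeg) ⊗[k] (A ⧸ JP lam) →ₐ[k] Y)
    (hinc : ∀ δ : Y →ₗ[K] K, (∀ c, δ (incR c) = 0) → δ = 0)
    (y₀ : Y →ₐ[K] K)
    (h1 : fstPt ((y₀.restrictScalars k).comp incR) = 1)
    (h2 : sndPt ((y₀.restrictScalars k).comp incR) = 1)
    (hX : ∀ Φ : A →ₐ[k] Y, ∃ φ : X →ₐ[K] Y, ∀ a, φ (incA a) = Φ a) (c : X →ₐ[K] Y)
    (hc : ∀ a, c (incA a) = incR (cell (k := k) (JU lamNeg) (JP lam) a)) (hcet : c.toRingHom.Etale) :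
    ∃ u p : WithConv (A →ₐ[k] K), u ∈ USub lamNeg K ∧ p ∈ PSub lam K ∧ u * p = g := by
  obtain ⟨φ, hφ⟩ := hX (fstPt incR * mapPt (IsScalarTower.toAlgHom k K Y) g * sndPt incR).ofConv
  obtain ⟨y₁, y₂, h⟩ := EtPts.exists_pt_eq φ c hcet y₀ (fun δ hδ hδφ =>
    der_eq_zero hneg F K g hg Y incR hinc y₀ h1 h2 δ hδ (fun a => by
      have := hδφ (incA a)
      rwa [hφ] at this))
  have h1 : mapPt (y₁.restrictScalars k)
      (fstPt incR * mapPt (IsScalarTower.toAlgHom k K Y) g * sndPt incR) =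
        toConv (((y₂.restrictScalars k).comp incR).comp (cell (k := k) (JU lamNeg) (JP lam))) := by
    apply WithConv.ofConv_injective
    ext1 a
    have h2 := DFunLike.congr_fun h (incA a)
    rw [AlgHom.comp_apply, AlgHom.comp_apply, hφ, hc] at h2
    exact h2
  have h3 : mapPt (y₁.restrictScalars k) (mapPt (IsScalarTower.toAlgHom k K Y) g) = g := by
    apply WithConv.ofConv_injective
    ext1 a
    exact y₁.commutes (g.ofConv a)
  rw [← fstPt_mul_sndPt, map_mul, map_mul, h3, mapPt_fstPt, mapPt_sndPt] at h1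
  set u₁ := fstPt ((y₁.restrictScalars k).comp incR)
  set p₁ := sndPt ((y₁.restrictScalars k).comp incR)
  set u₂ := fstPt ((y₂.restrictScalars k).comp incR)
  set p₂ := sndPt ((y₂.restrictScalars k).comp incR)
  refine ⟨u₁⁻¹ * u₂, p₂ * p₁⁻¹, mul_mem (inv_mem (fstPt_mem lam lamNeg _)) (fstPt_mem lam lamNeg _),
    mul_mem (sndPt_mem lam lamNeg _) (inv_mem (sndPt_mem lam lamNeg _)), ?_⟩
  have h4 : g = u₁⁻¹ * (u₁ * g * p₁) * p₁⁻¹ := by group
  rw [h4, h1]
  group

/-- Over an algebraically closed field the open cell is the locus `f ≠ 0`. -/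
theorem exists_factor (hneg : (lamNeg : A →ₐ[k] k[T;T⁻¹]) = Dyn.negParam k A lam) (F : Frame lam)
    [Algebra.Smooth k A] (hcell : (cell (k := k) (JU lamNeg) (JP lam)).toRingHom.Etale)
    (K : Type u) [Field K] [IsAlgClosed K] [Algebra k K] [IsDomain (K ⊗[k] A)]
    (g : WithConv (A →ₐ[k] K)) (hg : g.ofConv F.f ≠ 0) :
    ∃ u p : WithConv (A →ₐ[k] K), u ∈ USub lamNeg K ∧ p ∈ PSub lam K ∧ u * p = g := by
  have : Algebra.Smooth k ((A ⧸ JU lamNeg) ⊗[k] (A ⧸ JP lam)) := smooth_of_etale _ hcell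
  let incR : (A ⧸ JU lamNeg) ⊗[k] (A ⧸ JP lam) →ₐ[k] K ⊗[k] ((A ⧸ JU lamNeg) ⊗[k] (A ⧸ JP lam)) :=
    Algebra.TensorProduct.includeRight
  let x₀ : (A ⧸ JU lamNeg) ⊗[k] (A ⧸ JP lam) →ₐ[k] K := mk lam lamNeg 1 1 (one_mem _) (one_mem _)
  let y₀ : K ⊗[k] ((A ⧸ JU lamNeg) ⊗[k] (A ⧸ JP lam)) →ₐ[K] K :=
    Algebra.TensorProduct.lift (AlgHom.id K K) x₀ (fun _ _ => Commute.all _ _)
  have hy₀ : (y₀.restrictScalars k).comp incR = x₀ := by
    apply AlgHom.ext
    intro c
    refine (Algebra.TensorProduct.lift_tmul (AlgHom.id K K) x₀ (fun _ _ => Commute.all _ _) 1 c).trans ?_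
    rw [map_one, one_mul]
  refine exists_factor_aux hneg F K g hg (K ⊗[k] A) (K ⊗[k] ((A ⧸ JU lamNeg) ⊗[k] (A ⧸ JP lam)))
    Algebra.TensorProduct.includeRight incR ?_ y₀ ?_ ?_ ?_
    (Algebra.TensorProduct.map (AlgHom.id K K) (cell (k := k) (JU lamNeg) (JP lam))) ?_
    (EtPts.etale_baseChange _ hcell K)
  · intro δ hδ
    apply TensorProduct.AlgebraTensorModule.curry_injective
    apply LinearMap.ext_ring
    apply LinearMap.ext
    intro c
    exact hδ c
  · rw [hy₀]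
    exact fstPt_mk lam lamNeg 1 1 _ _
  · rw [hy₀]
    exact sndPt_mk lam lamNeg 1 1 _ _
  · intro Φ
    exact exists_lift (k := k) (A := A) K (Y := K ⊗[k] ((A ⧸ JU lamNeg) ⊗[k] (A ⧸ JP lam))) Φ
  · intro a
    rw [Algebra.TensorProduct.includeRight_apply, Algebra.TensorProduct.map_tmul, map_one]
    rfl

end Groth.Agent.RedSub.H650.CellEq
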