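import Groth.Agent.RedSub.H650.Frame
import Groth.Agent.Sga3A.SmoothSection
import Mathlib.RingTheory.GradedAlgebra.Homogeneous.Ideal

/-!
# Existence of frames for smooth Hopf algebras
-/

set_option autoImplicit false

open TensorProduct WithConv LaurentPolynomial

universe u

namespace Groth.Agent.RedSub.H650

open Groth.Agent.Books.DynBasic Groth.Agent.Books.DynLim AdPart

variable {k : Type u} [CommRing k] {A : Type u} [CommRing A] [HopfAlgebra k A]

/-- a finite algebra of sections at first order -/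
lemma finite_quotient_sq [Algebra.FiniteType k A] (e : A →ₐ[k] k) :
    Module.Finite k (A ⧸ RingHom.ker e ^ 2) := by
  obtain ⟨N, π, hπ, heπ⟩ := Groth.Agent.Sga3A.SmoothSection.exists_adapted_surjection e
  let mk : A →ₗ[k] A ⧸ RingHom.ker e ^ 2 := (Ideal.Quotient.mkₐ k _).toLinearMap
  have hmk : ∀ a ∈ RingHom.ker e ^ 2, mk a = 0 := fun a ha => Ideal.Quotient.eq_zero_iff_mem.2 ha
  let T : Set (A ⧸ RingHom.ker e ^ 2) := insert (mk 1) (Set.range fun i => mk (π (MvPolynomial.X i)))
  have hT : T.Finite := (Set.finite_range _).insert _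
  have key : ∀ p, mk (π p) ∈ Submodule.span k T := by
    intro p
    induction p using MvPolynomial.induction_on with
    | C a =>
      rw [← MvPolynomial.algebraMap_eq, AlgHom.commutes, Algebra.algebraMap_eq_smul_one, map_smul]
      exact Submodule.smul_mem _ _ (Submodule.subset_span (Set.mem_insert _ _))
    | add p q hp hq => rw [map_add, map_add]; exact add_mem hp hq
    | mul_X p i _ =>
      have h1 : mk (π (p * MvPolynomial.X i)) = e (π p) • mk (π (MvPolynomial.X i)) := by
        rw [← sub_eq_zero, ← map_smul, ← map_sub]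
        apply hmk
        have h2 : π (p * MvPolynomial.X i) - e (π p) • π (MvPolynomial.X i) =
            (π p - algebraMap k A (e (π p))) * π (MvPolynomial.X i) := by
          rw [map_mul, Algebra.smul_def, sub_mul]
        rw [h2, pow_two]
        refine Ideal.mul_mem_mul ?_ ?_
        · rw [RingHom.mem_ker, map_sub, AlgHom.commutes]
          exact sub_self _
        · rw [RingHom.mem_ker, heπ, MvPolynomial.aeval_X]
      rw [h1]
      exact Submodule.smul_mem _ _ (Submodule.subset_span (Set.mem_insert_of_mem _ ⟨i, rfl⟩))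
  refine ⟨⟨hT.toFinset, ?_⟩⟩
  rw [eq_top_iff]
  rintro x -
  obtain ⟨a, rfl⟩ := Ideal.Quotient.mk_surjective x
  obtain ⟨p, rfl⟩ := hπ a
  rw [Set.Finite.coe_toFinset]
  exact key p

section

variable (lam : A →ₐc[k] k[T;T⁻¹])

/-- the augmentation ideal -/
noncomputable abbrev aug (k A : Type u) [CommRing k] [CommRing A] [HopfAlgebra k A] : Ideal A :=
  RingHom.ker (Bialgebra.counitAlgHom k A)

lemma mem_aug {a : A} : a ∈ aug k A ↔ Coalgebra.counit (R := k) a = 0 := Iff.rfl

lemma pr_mem_aug (m : ℤ) (a : A) (ha : a ∈ aug k A) : pr lam m a ∈ aug k A := by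
  rw [mem_aug, counit_pr, mem_aug.1 ha, ite_self]

lemma isHomogeneous_aug : (aug k A).IsHomogeneous (gr lam) := by
  intro i r hr
  rw [decompose_apply]
  exact pr_mem_aug lam i r hr

lemma pr_mem_aug_sq (m : ℤ) (a : A) (ha : a ∈ aug k A ^ 2) : pr lam m a ∈ aug k A ^ 2 := by
  have h := (isHomogeneous_aug lam).mul (isHomogeneous_aug lam)
  rw [pow_two] at ha ⊢
  have := h m ha
  rwa [decompose_apply] at this

lemma mem_of_pr_mem (J : Ideal A) (a : A) (h : ∀ m, pr lam m a ∈ J) : a ∈ J := by
  rw [← sum_pr lam a, Finsupp.sum]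
  exact sum_mem fun m _ => h m

lemma aug_sq_le : aug k A ^ 2 ≤ aug k A := Ideal.pow_le_self two_ne_zero

theorem exists_frame [Algebra.FormallySmooth k A] [Algebra.FiniteType k A] : Nonempty (Frame lam) := by
  classical
  have hfin : Module.Finite k (A ⧸ aug k A ^ 2) :=
    finite_quotient_sq (Bialgebra.counitAlgHom k A)
  have hproj : Module.Projective k (A ⧸ aug k A ^ 2) :=
    Groth.Agent.Sga3A.SmoothSection.projective_quotient_pow (Bialgebra.counitAlgHom k A) 1
  obtain ⟨n, f, g, -, -, hfg⟩ := Module.Finite.exists_comp_eq_id_of_projective k (A ⧸ aug k A ^ 2)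
  choose x hx using fun s : Fin n => Ideal.Quotient.mk_surjective (f (Pi.single s 1))
  let mk : A →ₗ[k] A ⧸ aug k A ^ 2 := (Ideal.Quotient.mkₐ k _).toLinearMap
  have hmk : ∀ a, mk a = 0 ↔ a ∈ aug k A ^ 2 := fun a => Ideal.Quotient.eq_zero_iff_mem
  let ξ : Fin n → A →ₗ[k] k := fun s => LinearMap.proj s ∘ₗ g ∘ₗ mk
  have hξ0 : ∀ s, ∀ a ∈ aug k A ^ 2, ξ s a = 0 := by
    intro s a ha
    change g (mk a) s = 0
    rw [(hmk a).2 ha, map_zero]
    rfl
  have hξ : ∀ a, a - ∑ s, ξ s a • x s ∈ aug k A ^ 2 := by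
    intro a
    rw [← hmk, map_sub, map_sum, sub_eq_zero]
    have h1 : mk a = f (g (mk a)) := (LinearMap.congr_fun hfg (mk a)).symm
    rw [h1]
    have h2 : g (mk a) = ∑ s, ξ s a • Pi.single s (1 : k) := by
      ext t
      simp only [Finset.sum_apply, Pi.smul_apply, Pi.single_apply, smul_eq_mul, mul_ite, mul_one,
        mul_zero, Finset.sum_ite_eq, Finset.mem_univ, if_true]
      rfl
    rw [h2, map_sum]
    refine Finset.sum_congr rfl fun s _ => ?_
    rw [map_smul, map_smul]
    congr 1
    exact (hx s).symm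
  let W : Finset ℤ := Finset.univ.biUnion fun s => (rho lam (x s)).coeff.support
  have hW : ∀ m ∉ W, ∀ s, pr lam m (x s) = 0 := by
    intro m hm s
    rw [Finset.mem_biUnion] at hm
    push Not at hm
    exact Finsupp.notMem_support_iff.1 (hm s (Finset.mem_univ s))
  let E : ℤ → Fin n → A := fun m s => pr lam m (x s) -
    algebraMap k A (Coalgebra.counit (R := k) (pr lam m (x s)))
  have hE : ∀ m s, E m s ∈ gr lam m := by
    intro m s
    refine sub_mem (pr_mem_gr lam m _) ?_
    rw [counit_pr]
    by_cases hm : m = 0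
    · subst hm
      exact algebraMap_mem_gr lam _
    · rw [if_neg hm, map_zero]
      exact zero_mem _
  have hE0 : ∀ m s, Coalgebra.counit (R := k) (E m s) = 0 := by
    intro m s
    rw [map_sub, Bialgebra.counit_algebraMap, sub_self]
  let εl : A →ₗ[k] A := Algebra.linearMap k A ∘ₗ Coalgebra.counit
  have hεl : ∀ a, εl a = algebraMap k A (Coalgebra.counit (R := k) a) := fun _ => rfl
  let Φ : ℤ → Fin n → A →ₗ[k] k := fun m s => ξ s ∘ₗ (pr lam m - εl ∘ₗ pr lam m)
  have hΦ : ∀ m s a, Φ m s a = ξ s (pr lam m a -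
    algebraMap k A (Coalgebra.counit (R := k) (pr lam m a))) := fun m s a => rfl
  have hΦ0 : ∀ m s, ∀ a ∈ aug k A ^ 2, Φ m s a = 0 := by
    intro m s a ha
    have h1 := pr_mem_aug_sq lam m a ha
    rw [hΦ, mem_aug.1 (aug_sq_le h1), map_zero, sub_zero]
    exact hξ0 s _ h1
  have hΦc : ∀ m s c, Φ m s (algebraMap k A c) = 0 := by
    intro m s c
    rw [hΦ, pr_of_mem lam (algebraMap_mem_gr lam c) m]
    by_cases hm : (0 : ℤ) = m
    · rw [if_pos hm, Bialgebra.counit_algebraMap, sub_self, map_zero]
    · rw [if_neg hm, map_zero, map_zero, sub_zero, map_zero]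
  have hΦd : ∀ m s, IsDer (Φ m s) := by
    intro m s a b
    have h1 : (a - algebraMap k A (Coalgebra.counit (R := k) a)) *
        (b - algebraMap k A (Coalgebra.counit (R := k) b)) ∈ aug k A ^ 2 := by
      rw [pow_two]
      refine Ideal.mul_mem_mul ?_ ?_ <;>
      · rw [mem_aug, map_sub, Bialgebra.counit_algebraMap, sub_self]
    have h2 := hΦ0 m s _ h1
    have h3 : (a - algebraMap k A (Coalgebra.counit (R := k) a)) *
        (b - algebraMap k A (Coalgebra.counit (R := k) b)) =
        a * b - (Coalgebra.counit (R := k) a) • b - (Coalgebra.counit (R := k) b) • a +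
          algebraMap k A (Coalgebra.counit (R := k) a * Coalgebra.counit (R := k) b) := by
      rw [Algebra.smul_def, Algebra.smul_def, map_mul]
      ring
    rw [h3, map_add, map_sub, map_sub, hΦc, add_zero, map_smul, map_smul, sub_sub,
      sub_eq_zero] at h2
    rw [h2]
    rfl
  have hspan : ∀ a, a - algebraMap k A (Coalgebra.counit (R := k) a) -
      ∑ j : Fin n × W, Φ j.2 j.1 a • E j.2 j.1 ∈ aug k A ^ 2 := by
    intro a
    set a' := a - algebraMap k A (Coalgebra.counit (R := k) a) with ha'
    have hΦa : ∀ m s, Φ m s a = Φ m s a' := by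
      intro m s
      rw [ha', map_sub, hΦc, sub_zero]
    have haug : a' ∈ aug k A := by rw [mem_aug, ha', map_sub, Bialgebra.counit_algebraMap, sub_self]
    have hΦa' : ∀ m s, Φ m s a' = ξ s (pr lam m a') := by
      intro m s
      rw [hΦ, mem_aug.1 (pr_mem_aug lam m a' haug), map_zero, sub_zero]
    have key : ∀ m, pr lam m a' - ∑ s, Φ m s a • E m s ∈ aug k A ^ 2 := by
      intro m
      have h1 := pr_mem_aug_sq lam m _ (hξ (pr lam m a'))
      rw [map_sub, map_sum, pr_pr, if_pos rfl] at h1
      simp only [map_smul] at h1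
      have h2 : ∑ s, Φ m s a • E m s = ∑ s, ξ s (pr lam m a') • pr lam m (x s) -
          algebraMap k A (Coalgebra.counit (R := k) (∑ s, ξ s (pr lam m a') • pr lam m (x s))) := by
        rw [map_sum, map_sum, ← Finset.sum_sub_distrib]
        refine Finset.sum_congr rfl fun s _ => ?_
        rw [hΦa, hΦa', map_smul, smul_eq_mul, map_mul, ← Algebra.smul_def, ← smul_sub]
      have h3 : Coalgebra.counit (R := k) (∑ s, ξ s (pr lam m a') • pr lam m (x s)) = 0 := by
        have h4 := mem_aug.1 (aug_sq_le h1)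
        rw [map_sub, mem_aug.1 (pr_mem_aug lam m a' haug), zero_sub, neg_eq_zero] at h4
        exact h4
      rw [h2, h3, map_zero, sub_zero]
      exact h1
    apply mem_of_pr_mem lam
    intro m
    rw [map_sub, map_sum]
    simp only [map_smul]
    have h5 : ∑ j : Fin n × W, Φ j.2 j.1 a • pr lam m (E j.2 j.1) = ∑ s, Φ m s a • E m s := by
      rw [Fintype.sum_prod_type]
      refine Finset.sum_congr rfl fun s _ => ?_
      by_cases hm : m ∈ W
      · rw [Finset.sum_eq_single ⟨m, hm⟩]
        · rw [pr_of_mem_same lam (hE m s)]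
        · rintro ⟨m', hm'⟩ - hne
          rw [pr_of_mem_ne lam (hE m' s) (fun h => hne (Subtype.ext h)), smul_zero]
        · intro h
          exact (h (Finset.mem_univ _)).elim
      · have h6 : E m s = 0 := by
          change pr lam m (x s) - algebraMap k A (Coalgebra.counit (R := k) (pr lam m (x s))) = 0
          rw [hW m hm, map_zero, map_zero, sub_zero]
        rw [h6, smul_zero]
        refine Finset.sum_eq_zero fun m' _ => ?_
        have h7 : (m' : ℤ) ≠ m := by
          rintro rfl
          exact hm m'.2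
        rw [pr_of_mem_ne lam (hE m' s) h7, smul_zero]
    rw [h5]
    exact key m
  let eq : Fin n × W ≃ Fin (Fintype.card (Fin n × W)) := Fintype.equivFin _
  exact ⟨{
    n := Fintype.card (Fin n × W)
    w := fun j => (eq.symm j).2
    e := fun j => E (eq.symm j).2 (eq.symm j).1
    d := fun j => Φ (eq.symm j).2 (eq.symm j).1
    e_mem := fun j => hE _ _
    e_counit := fun j => hE0 _ _
    d_der := fun j => hΦd _ _
    d_gr := fun j m hm a ha => by
      rw [hΦ, pr_of_mem_ne lam ha hm, map_zero, map_zero, sub_zero, map_zero]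
    span := fun a => by
      rw [eq.symm.sum_comp (fun j : Fin n × W => Φ j.2 j.1 a • E j.2 j.1)]
      exact hspan a }⟩

end

end Groth.Agent.RedSub.H650
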