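import Groth.Agent.RedSub.H650.CellEq
import Groth.Agent.RedSub.H650.FrameExists
import Groth.Agent.Sga3B.Parab.DynCell998
import Groth.Agent.Sga3B.Parab.DynGeom678
import Groth.Agent.Sga3C.GrpIrr

/-!
# The semi-invariant function on a smooth affine group with connected fibres over an affine base

`exists_semiinvariant`: for `p : P ⟶ G` the subgroup `P_G(λ)` and `u : U ⟶ G` the subgroup `U_G(-λ)` there is a
function `f` on `G` such that the open cell `U · P` is the locus where `f` is invertible and `f(gp) = f(g) f(p)`,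
`f(ug) = f(u) f(g)`, `f(1) = 1`.
-/

set_option autoImplicit false
set_option linter.unusedSectionVars false

universe u

open CategoryTheory MonoidalCategory CartesianMonoidalCategory MonObj GrpObj AlgebraicGeometry Limits
open scoped LaurentPolynomial Polynomial TensorProduct
open WithConv
open Groth.Agent.Books.AffBridge Groth.Agent.Books.DynBasic Groth.Agent.Books.DynLim
open Groth.Agent.Sga3B.Parab.Chart998 Groth.Agent.Sga3B.Parab.AffPts998
open Groth.Agent.Sga3B.Parab.Rep998 Groth.Agent.Sga3B.Parab.Dyn998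
open Groth.Agent.Sga3B.Parab.DynExist998 Groth.Agent.Sga3B.Parab.DynBc998
open Groth.Agent.Sga3B.Parab.DynSmooth998 Groth.Agent.Sga3B.Parab.DynLevi998
open Groth.Agent.Sga3B.Parab.DynCell998
open Groth.Agent.Sga3B.Parab

namespace Groth.Agent.RedSub.H650.CellScheme

section

variable {R : Type u} [CommRing R] {A : Type u} [CommRing A] [HopfAlgebra R A]

/-- Base changes of a group scheme with connected fibres to fields are connected. -/
lemma connectedSpace_bc {S : Scheme.{u}} (G : Over S) [GrpObj G] [LocallyOfFiniteType G.hom]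
    (hconn : ∀ s : S, _root_.IsConnected (G.hom.base ⁻¹' {s})) {K : Type u} [Field K]
    (p : Spec (CommRingCat.of K) ⟶ S) : ConnectedSpace (Red.bc p G).left := by
  have : GrpObj (Over.mk G.hom) := inferInstanceAs (GrpObj G)
  have h1 : GeometricallyIrreducible G.hom :=
    Sga3C.GrpIrr.geometricallyIrreducible_of_connected_fibres G.hom hconn
  have h2 : IrreducibleSpace ↥(pullback G.hom p) :=
    GeometricallyIrreducible.irreducibleSpace_of_subsingleton (pullback.snd G.hom p)
  exact inferInstanceAs (ConnectedSpace ↥(pullback G.hom p))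

lemma etale_of_isOpenImmersion {B C : Type u} [CommRing B] [CommRing C] (φ : B →+* C)
    (h : IsOpenImmersion (Spec.map (CommRingCat.ofHom φ))) : φ.Etale := by
  have h1 : Etale (Spec.map (CommRingCat.ofHom φ)) := inferInstance
  rwa [HasRingHomProperty.Spec_iff (P := @Etale)] at h1

/-- the cell map is étale -/
lemma etale_cell [Algebra.Smooth R A] (lam lamNeg : A →ₐc[R] R[T;T⁻¹])
    (hneg : (lamNeg : A →ₐ[R] R[T;T⁻¹]) = Dyn.negParam R A lam) :
    (Groth.Agent.Books.DynOpen.cell (k := R) (JU lamNeg) (JP lam)).toRingHom.Etale := by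
  have := isHopfIdeal_JP lam
  have := isHopfIdeal_JU lam
  have := isHopfIdeal_JU lamNeg
  have h1 := (S3306.result R A lam lamNeg hneg _ _ _
      (represents_JP _) (represents_JU _) (represents_JU _)).2.2
  exact etale_of_isOpenImmersion _ h1

variable {G : Over (Spec (CommRingCat.of R))} [GrpObj G]

instance isIso_chartι (e : Red.bc (𝟙 (Spec (CommRingCat.of R))) G ≅ SpecOver R A) : IsIso (chartι e) := by
  have h1 : IsIso (pullback.fst G.hom (𝟙 (Spec (CommRingCat.of R)))) := inferInstance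
  have h2 : IsIso e.inv.left := (Over.forget _).map_isIso e.inv
  unfold chartι
  exact @IsIso.comp_isIso _ _ _ _ _ _ _ h2 h1

/-- the fibres of a smooth affine group with connected fibres over algebraically closed fields are integral -/
lemma isDomain_tensor [IsAffineHom G.hom] [Smooth G.hom]
    (hconn : ∀ s, _root_.IsConnected (G.hom.base ⁻¹' {s})) (e : Red.bc (𝟙 (Spec (CommRingCat.of R))) G ≅ SpecOver R A) [IsMonHom e.hom]
    (K : Type u) [Field K] [IsAlgClosed K] [Algebra R K] : IsDomain (K ⊗[R] A) := by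
  let c : Spec (CommRingCat.of K) ⟶ Spec (CommRingCat.of R) :=
    Spec.map (CommRingCat.ofHom (algebraMap R K))
  have h1 : ConnectedSpace (Red.bc c G).left := connectedSpace_bc G hconn c
  have h2 : IsAffineHom (Red.bc c G).hom := inferInstanceAs (IsAffineHom (pullback.snd G.hom c))
  have h3 : Smooth (Red.bc c G).hom := inferInstanceAs (Smooth (pullback.snd G.hom c))
  have h4 : IsIntegral (Red.bc c G).left := DynGeom678.isIntegral_of_connected _
  have e1 : (Red.bc c G).left ≅ Spec (CommRingCat.of (A ⊗[R] K)) := by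
    let e2 : G.left ≅ Spec (CommRingCat.of A) := (asIso (chartι e)).symm
    have h5 : e2.hom ≫ Spec.map (CommRingCat.ofHom (algebraMap R A)) = G.hom := by
      change (asIso (chartι e)).inv ≫ _ = _
      rw [Iso.inv_comp_eq, asIso_hom, chartι_hom, Category.comp_id]
    refine ?_ ≪≫ pullbackSpecIso R A K
    exact asIso (pullback.map G.hom c (Spec.map (CommRingCat.ofHom (algebraMap R A))) c e2.hom (𝟙 _) (𝟙 _)
      (by rw [h5, Category.comp_id]) (by rw [Category.comp_id, Category.id_comp]))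
  have h6 : IsIntegral (Spec (CommRingCat.of (A ⊗[R] K))) := by
    have : Nonempty (Spec (CommRingCat.of (A ⊗[R] K))) := ⟨e1.hom.base (Classical.arbitrary _)⟩
    exact isIntegral_of_isOpenImmersion e1.inv
  have h7 : IsDomain (A ⊗[R] K) := by
    have h8 := (affine_isIntegral_iff (CommRingCat.of (A ⊗[R] K))).1 h6
    exact h8
  exact (Algebra.TensorProduct.comm R K A).toRingEquiv.toMulEquiv.isDomain (A ⊗[R] K)

section fn

variable (e : Red.bc (𝟙 (Spec (CommRingCat.of R))) G ≅ SpecOver R A)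

/-- the function on `G` attached to an element of the Hopf algebra -/
noncomputable def fn (a : A) : Γ(G.left, ⊤) :=
  (inv (chartι e)).appTop ((Scheme.ΓSpecIso (CommRingCat.of A)).inv a)

lemma chartι_appTop_fn (a : A) :
    (chartι e).appTop (fn e a) = (Scheme.ΓSpecIso (CommRingCat.of A)).inv a := by
  have h := Scheme.Hom.comp_appTop (chartι e) (inv (chartι e))
  rw [IsIso.hom_inv_id, Scheme.Hom.id_appTop] at h
  exact (congr($h ((Scheme.ΓSpecIso (CommRingCat.of A)).inv a))).symm

variable [IsMonHom e.hom] {C : Type u} [CommRing C] [Algebra R C] {c : Spec (CommRingCat.of C) ⟶ Spec (CommRingCat.of R)}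
variable (hc : Spec.map (CommRingCat.ofHom (algebraMap R C)) ≫ 𝟙 _ = c)

lemma pt_appTop_fn (g : A →ₐ[R] C) (a : A) :
    (pt e hc g).left.appTop (fn e a) = (Scheme.ΓSpecIso (CommRingCat.of C)).inv (g a) := by
  rw [pt_left, Scheme.Hom.comp_appTop]
  change (Spec.map (CommRingCat.ofHom g.toRingHom)).appTop ((chartι e).appTop (fn e a)) = _
  rw [chartι_appTop_fn]
  have h := Scheme.ΓSpecIso_inv_naturality (CommRingCat.ofHom g.toRingHom)
  exact (congr($h a)).symm

end fn

lemma exists_pt (e : Red.bc (𝟙 (Spec (CommRingCat.of R))) G ≅ SpecOver R A) [IsMonHom e.hom]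
    (C : Type u) [CommRing C] (c : Spec (CommRingCat.of C) ⟶ Spec (CommRingCat.of R)) :
    ∃ (_ : Algebra R C) (hc : Spec.map (CommRingCat.ofHom (algebraMap R C)) ≫ 𝟙 _ = c),
      ∀ x : aff C c ⟶ G, ∃ g : WithConv (A →ₐ[R] C), pt e hc g.ofConv = x := by
  let _ : Algebra R C := (Spec.preimage c).hom.toAlgebra
  have hc : Spec.map (CommRingCat.ofHom (algebraMap R C)) ≫ 𝟙 _ = c := by
    rw [Category.comp_id]
    exact Spec.map_preimage c
  refine ⟨inferInstance, hc, fun x => ?_⟩
  obtain ⟨g, hg⟩ := (pt_bijective e hc).2 x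
  exact ⟨toConv g, hg⟩

variable {P U : Over (Spec (CommRingCat.of R))} [GrpObj P] [GrpObj U]

/-- Multiplicativity of a function can be tested on affine points. -/
lemma mul_of_aff {X Y : Over (Spec (CommRingCat.of R))} (a : X ⟶ G) (b : Y ⟶ G) (f : Γ(G.left, ⊤))
    (h : ∀ (C : Type u) [CommRing C] (c : Spec (CommRingCat.of C) ⟶ Spec (CommRingCat.of R))
      (x : aff C c ⟶ X) (y : aff C c ⟶ Y), ((x ≫ a) * (y ≫ b)).left.appTop f =
        (x ≫ a).left.appTop f * (y ≫ b).left.appTop f)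
    {T : Over (Spec (CommRingCat.of R))} (x : T ⟶ X) (y : T ⟶ Y) :
    ((x ≫ a) * (y ≫ b)).left.appTop f = (x ≫ a).left.appTop f * (y ≫ b).left.appTop f := by
  refine Scheme.OpenCover.ext_elem _ _ T.left.affineCover fun i => ?_
  have key : ∀ {W : Scheme.{u}} (j : W ⟶ T.left), (∃ C : CommRingCat.{u}, W = Spec C) →
      j.appTop (((x ≫ a) * (y ≫ b)).left.appTop f) =
        j.appTop ((x ≫ a).left.appTop f * (y ≫ b).left.appTop f) := by
    rintro W j ⟨C, rfl⟩
    let w : aff C (j ≫ T.hom) ⟶ T := Over.homMk j rfl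
    have h1 : ∀ z : T ⟶ G, j.appTop (z.left.appTop f) = (w ≫ z).left.appTop f := by
      intro z
      rw [Over.comp_left, Scheme.Hom.comp_appTop]
      rfl
    rw [map_mul, h1, h1, h1, MonObj.comp_mul, ← Category.assoc, ← Category.assoc]
    exact h C (j ≫ T.hom) (w ≫ x) (w ≫ y)
  exact key (T.left.affineCover.f i) ⟨_, rfl⟩

/-- the point of the spectrum of a field -/
noncomputable def cp (K : Type u) [Field K] : Spec (CommRingCat.of K) := IsLocalRing.closedPoint K

lemma mem_basicOpen_iff {X : Scheme.{u}} (f : Γ(X, ⊤)) {K : Type u} [Field K]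
    (x : Spec (CommRingCat.of K) ⟶ X) (b : K)
    (hb : x.appTop f = (Scheme.ΓSpecIso (CommRingCat.of K)).inv b) :
    x (cp K) ∈ X.basicOpen f ↔ b ≠ 0 := by
  have h1 : x ⁻¹ᵁ X.basicOpen f = (Spec (CommRingCat.of K)).basicOpen (x.appTop f) :=
    Scheme.preimage_basicOpen_top x f
  have h2 : x (cp K) ∈ X.basicOpen f ↔ cp K ∈ x ⁻¹ᵁ X.basicOpen f := Iff.rfl
  rw [h2, h1, hb]
  constructor
  · rintro h rfl
    rw [map_zero, Scheme.basicOpen_zero] at h
    exact h
  · intro h
    have h3 : IsUnit ((Scheme.ΓSpecIso (CommRingCat.of K)).inv b) :=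
      (isUnit_iff_ne_zero.2 h).map (Scheme.ΓSpecIso (CommRingCat.of K)).inv.hom
    rw [Scheme.basicOpen_of_isUnit _ h3]
    trivial

lemma fromSpecResidueField_cp {X : Scheme.{u}} (x : X) :
    X.fromSpecResidueField x (cp (X.residueField x)) = x := Scheme.fromSpecResidueField_apply x _

/-- **The semi-invariant function.** -/
theorem exists_semiinvariant [IsAffineHom G.hom] [Smooth G.hom]
    (hconn : ∀ s, _root_.IsConnected (G.hom.base ⁻¹' {s}))
    {lam : Red.Gm (Spec (CommRingCat.of R)) ⟶ G} [IsMonHom lam]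
    {p : P ⟶ G} (hp : IsDynP lam p) {u : U ⟶ G} (hu : IsDynU (negLam lam) u) :
    ∃ f : Γ(G.left, ⊤), Set.range ((u ⊗ₘ p) ≫ μ[G]).left = G.left.basicOpen f ∧
      (∀ (T : Over (Spec (CommRingCat.of R))) (g : T ⟶ G) (x : T ⟶ P),
        (g * (x ≫ p)).left.appTop f = g.left.appTop f * (x ≫ p).left.appTop f) ∧
      (∀ (T : Over (Spec (CommRingCat.of R))) (y : T ⟶ U) (g : T ⟶ G),
        ((y ≫ u) * g).left.appTop f = (y ≫ u).left.appTop f * g.left.appTop f) ∧
      (∀ (T : Over (Spec (CommRingCat.of R))), (1 : T ⟶ G).left.appTop f = 1) := by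
  obtain ⟨A, _, _, e, _⟩ := exists_chart (G := G) (𝟙 (Spec (CommRingCat.of R)))
  have hA := smooth_chart e
  have : Algebra.FinitePresentation R A := hA.finitePresentation
  have hft : Algebra.FiniteType R A := inferInstance
  obtain ⟨F⟩ := exists_frame (lamB lam e)
  have hneg := lamB_negLam lam e
  have hcell := etale_cell (lamB lam e) (lamB (negLam lam) e) hneg
  have hPpt : ∀ (C : Type u) [CommRing C] [Algebra R C] (c : Spec (CommRingCat.of C) ⟶ Spec (CommRingCat.of R))
      (hc : Spec.map (CommRingCat.ofHom (algebraMap R C)) ≫ 𝟙 _ = c) (g : WithConv (A →ₐ[R] C)),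
      (∃ x : aff C c ⟶ P, x ≫ p = pt e hc g.ofConv) ↔ g ∈ PSub (lamB lam e) C := by
    intro C _ _ c hc g
    rw [hp.iff_ptP, ptP_iff, limEx_pt, mem_PSub]
  have hUpt : ∀ (C : Type u) [CommRing C] [Algebra R C] (c : Spec (CommRingCat.of C) ⟶ Spec (CommRingCat.of R))
      (hc : Spec.map (CommRingCat.ofHom (algebraMap R C)) ≫ 𝟙 _ = c) (g : WithConv (A →ₐ[R] C)),
      (∃ x : aff C c ⟶ U, x ≫ u = pt e hc g.ofConv) ↔ g ∈ USub (lamB (negLam lam) e) C := by
    intro C _ _ c hc g
    rw [hu.iff_ptU, ptU_iff, limOne_pt, mem_USub]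
  refine ⟨fn e F.f, ?_, ?_, ?_, ?_⟩
  · ext z
    constructor
    · rintro ⟨w, rfl⟩
      -- a geometric point of the cell
      let K := (U ⊗ P).left.residueField w
      let w' : Spec (CommRingCat.of K) ⟶ (U ⊗ P).left := (U ⊗ P).left.fromSpecResidueField w
      let c := w' ≫ (U ⊗ P).hom
      let x : aff K c ⟶ U ⊗ P := Over.homMk w' rfl
      obtain ⟨_, hc, hpt⟩ := exists_pt e K c
      obtain ⟨a, ha⟩ := hpt (x ≫ fst U P ≫ u)
      obtain ⟨b, hb⟩ := hpt (x ≫ snd U P ≫ p)
      have ha' : a ∈ USub (lamB (negLam lam) e) K := (hUpt K c hc a).1 ⟨x ≫ fst U P, by rw [ha, Category.assoc]⟩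
      have hb' : b ∈ PSub (lamB lam e) K := (hPpt K c hc b).1 ⟨x ≫ snd U P, by rw [hb, Category.assoc]⟩
      have h1 : x ≫ (u ⊗ₘ p) ≫ μ[G] = pt e hc (a * b).ofConv := by
        rw [pt_mul, ha, hb, comp_mul_tensor]
      have h2 : ((u ⊗ₘ p) ≫ μ[G]).left w = (x ≫ (u ⊗ₘ p) ≫ μ[G]).left (cp K) := by
        have h3 : w' (cp K) = w := fromSpecResidueField_cp w
        have h4 : (x ≫ (u ⊗ₘ p) ≫ μ[G]).left = w' ≫ ((u ⊗ₘ p) ≫ μ[G]).left := rfl
        rw [h4, Scheme.Hom.comp_apply, h3]
      rw [h2, h1]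
      refine (mem_basicOpen_iff _ _ ((a * b).ofConv F.f) (pt_appTop_fn e hc _ _)).2 ?_
      rw [F.mul_apply_f a b hb']
      exact ((F.isUnit_apply_f' _ hneg a ha').mul (F.isUnit_apply_f b hb')).ne_zero
    · intro hz
      let κ := G.left.residueField z
      let K := AlgebraicClosure κ
      let z' : Spec (CommRingCat.of K) ⟶ G.left :=
        Spec.map (CommRingCat.ofHom (algebraMap κ K)) ≫ G.left.fromSpecResidueField z
      have hz' : z' (cp K) = z := by
        rw [Scheme.Hom.comp_apply]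
        exact Scheme.fromSpecResidueField_apply z _
      let c := z' ≫ G.hom
      let x : aff K c ⟶ G := Over.homMk z' rfl
      obtain ⟨_, hc, hpt⟩ := exists_pt e K c
      obtain ⟨g, hg⟩ := hpt x
      have hx : x.left = z' := rfl
      have h1 : g.ofConv F.f ≠ 0 := by
        refine (mem_basicOpen_iff (fn e F.f) z' (g.ofConv F.f) ?_).1 ?_
        · rw [← hx, ← hg]
          exact pt_appTop_fn e hc _ _
        · rw [hz']
          exact hz
      have hdom := isDomain_tensor hconn e K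
      obtain ⟨a, b, ha, hb, hab⟩ := CellEq.exists_factor hneg F hcell K g h1
      obtain ⟨a', ha'⟩ := (hUpt K c hc a).2 ha
      obtain ⟨b', hb'⟩ := (hPpt K c hc b).2 hb
      have h2 : lift a' b' ≫ (u ⊗ₘ p) ≫ μ[G] = x := by
        rw [comp_mul_tensor, lift_fst_assoc, lift_snd_assoc, ha', hb', ← pt_mul, hab, hg]
      refine ⟨(lift a' b').left (cp K), ?_⟩
      rw [← Scheme.Hom.comp_apply, ← Over.comp_left, h2, hx, hz']
  · intro T g x
    have := mul_of_aff (𝟙 G) p (fn e F.f) (fun C _ c x y => by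
      obtain ⟨_, hc, hpt⟩ := exists_pt e C c
      obtain ⟨a, ha⟩ := hpt (x ≫ 𝟙 G)
      obtain ⟨b, hb⟩ := hpt (y ≫ p)
      have hb' : b ∈ PSub (lamB lam e) C := (hPpt C c hc b).1 ⟨y, by rw [hb]⟩
      rw [← ha, ← hb, ← pt_mul, pt_appTop_fn, pt_appTop_fn, pt_appTop_fn, F.mul_apply_f a b hb', map_mul]) g x
    rwa [Category.comp_id] at this
  · intro T y g
    have := mul_of_aff u (𝟙 G) (fn e F.f) (fun C _ c x y => by
      obtain ⟨_, hc, hpt⟩ := exists_pt e C c
      obtain ⟨a, ha⟩ := hpt (x ≫ u)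
      obtain ⟨b, hb⟩ := hpt (y ≫ 𝟙 G)
      have ha' : a ∈ USub (lamB (negLam lam) e) C := (hUpt C c hc a).1 ⟨x, by rw [ha]⟩
      rw [← ha, ← hb, ← pt_mul, pt_appTop_fn, pt_appTop_fn, pt_appTop_fn,
        F.mul_apply_f' _ hneg a b ha', map_mul]) y g
    rwa [Category.comp_id] at this
  · intro T
    have h2 : (1 : aff R (𝟙 (Spec (CommRingCat.of R))) ⟶ G).left.appTop (fn e F.f) = 1 := by
      have hc : Spec.map (CommRingCat.ofHom (algebraMap R R)) ≫ 𝟙 (Spec (CommRingCat.of R)) = 𝟙 _ := hcR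
      rw [← pt_one e hc, pt_appTop_fn]
      have h3 : (1 : WithConv (A →ₐ[R] R)).ofConv F.f = 1 := F.counit_f
      rw [h3, map_one]
    let t : T ⟶ aff R (𝟙 (Spec (CommRingCat.of R))) := Over.homMk T.hom
    have h4 : (1 : T ⟶ G) = t ≫ 1 := (MonObj.comp_one _).symm
    have h5 : (1 : T ⟶ G).left.appTop (fn e F.f) =
        t.left.appTop ((1 : aff R (𝟙 (Spec (CommRingCat.of R))) ⟶ G).left.appTop (fn e F.f)) := by
      rw [h4, Over.comp_left, Scheme.Hom.comp_appTop]
      rfl
    rw [h5, h2, map_one]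

end

end Groth.Agent.RedSub.H650.CellScheme
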