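import Groth.Agent.Sga3B.CellEtAlg
import Groth.Agent.Sga3B.RG.Nullst
import Mathlib.RingTheory.RingHom.Etale
import Mathlib.RingTheory.Etale.Kaehler
import Mathlib.RingTheory.Flat.TorsionFree
import Mathlib.RingTheory.IsTensorProduct

/-!
# Two maps `X ⇉ Y` of smooth algebras over an algebraically closed field, one étale, the other one étale at a point,
the source being a domain, have a common value.
-/

set_option autoImplicit false

open TensorProduct

universe u

namespace Groth.Agent.RedSub.H650.EtPts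

section BaseChange

variable {k A C : Type u} [CommRing k] [CommRing A] [CommRing C] [Algebra k A] [Algebra k C]

/-- base change of étale maps -/
theorem etale_baseChange (c : A →ₐ[k] C) (hc : c.toRingHom.Etale) (K : Type u) [CommRing K] [Algebra k K] :
    (Algebra.TensorProduct.map (AlgHom.id K K) c : K ⊗[k] A →ₐ[K] K ⊗[k] C).toRingHom.Etale := by
  let : Algebra A C := c.toRingHom.toAlgebra
  let : Algebra (K ⊗[k] A) (K ⊗[k] C) :=
    (Algebra.TensorProduct.map (AlgHom.id K K) c : K ⊗[k] A →ₐ[K] K ⊗[k] C).toRingHom.toAlgebra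
  have hAC : ∀ a : A, algebraMap A C a = c a := fun _ => rfl
  have hKAC : ∀ z : K ⊗[k] A, algebraMap (K ⊗[k] A) (K ⊗[k] C) z =
    Algebra.TensorProduct.map (AlgHom.id K K) c z := fun _ => rfl
  let : Algebra A (K ⊗[k] C) := ((Algebra.TensorProduct.includeRight (R := k) (A := K) (B := C)).toRingHom.comp
    c.toRingHom).toAlgebra
  have hA : ∀ a : A, algebraMap A (K ⊗[k] C) a = 1 ⊗ₜ c a := fun _ => rfl
  let : Algebra C (K ⊗[k] C) := Algebra.TensorProduct.rightAlgebra
  let : Algebra A (K ⊗[k] A) := Algebra.TensorProduct.rightAlgebra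
  have hA' : ∀ a : A, algebraMap A (K ⊗[k] A) a = 1 ⊗ₜ a := fun _ => rfl
  have : IsScalarTower k A C := .of_algebraMap_eq fun r => (c.commutes r).symm
  have t1 : IsScalarTower A C (K ⊗[k] C) := .of_algebraMap_eq fun r => rfl
  have t2 : IsScalarTower A (K ⊗[k] A) (K ⊗[k] C) := .of_algebraMap_eq fun r => by
    rw [hA', hKAC, Algebra.TensorProduct.map_tmul, hA]
    rfl
  have t3 : IsScalarTower K (K ⊗[k] A) (K ⊗[k] C) := .of_algebraMap_eq fun r => by
    rw [hKAC, AlgHom.commutes]
  have t4 : IsScalarTower k (K ⊗[k] A) (K ⊗[k] C) := .of_algebraMap_eq fun r => by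
    rw [IsScalarTower.algebraMap_apply k K (K ⊗[k] C), IsScalarTower.algebraMap_apply K (K ⊗[k] A) (K ⊗[k] C),
      ← IsScalarTower.algebraMap_apply k K (K ⊗[k] A)]
  have p1 : Algebra.IsPushout k C K (K ⊗[k] C) := inferInstance
  have p2 : Algebra.IsPushout k A K (K ⊗[k] A) := inferInstance
  have p3 : Algebra.IsPushout A C (K ⊗[k] A) (K ⊗[k] C) :=
    (Algebra.IsPushout.comp_iff k A K (K ⊗[k] A)).1 p1
  exact RingHom.Etale.isStableUnderBaseChange A C (K ⊗[k] A) (K ⊗[k] C) hc

end BaseChange

section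

variable {K : Type u} [Field K] [IsAlgClosed K]
variable {X Y : Type u} [CommRing X] [CommRing Y] [Algebra K X] [Algebra K Y]

omit [IsAlgClosed K] in
/-- ranks of differentials along an étale map from a domain -/
theorem rank_of_etale [Algebra.Smooth K X] [IsDomain X] (c : X →ₐ[K] Y) (hc : c.toRingHom.Etale)
    (q : PrimeSpectrum Y) : Module.rankAtStalk Ω[Y⁄K] q = Module.rankAtStalk Ω[X⁄K] (⊥ : PrimeSpectrum X) := by
  let : Algebra X Y := c.toRingHom.toAlgebra
  have : IsScalarTower K X Y := .of_algebraMap_eq fun r => (c.commutes r).symm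
  have : Algebra.Etale X Y := hc
  rw [← Module.rankAtStalk_eq_of_equiv (KaehlerDifferential.tensorKaehlerEquivOfFormallyEtale K X Y),
    Module.rankAtStalk_baseChange]
  exact (Module.rankAtStalk_eq_of_le_of_finite_of_flat _ bot_le).symm

/-- étaleness near a rational point from derivations and ranks -/
theorem exists_away_etale [Algebra.Smooth K X] [Algebra.Smooth K Y] (φ : X →ₐ[K] Y) (y₀ : Y →ₐ[K] K)
    (hder : ∀ D : Y →ₗ[K] K, (∀ a b, D (a * b) = y₀ a * D b + y₀ b * D a) → (∀ x, D (φ x) = 0) → D = 0)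
    (hrank : ∀ (p : PrimeSpectrum X) (q : PrimeSpectrum Y), Module.rankAtStalk Ω[X⁄K] p = Module.rankAtStalk Ω[Y⁄K] q) :
    ∃ s : Y, y₀ s ≠ 0 ∧ ((algebraMap Y (Localization.Away s)).comp φ.toRingHom).Etale := by
  let : Algebra X Y := φ.toRingHom.toAlgebra
  have : IsScalarTower K X Y := .of_algebraMap_eq fun r => (φ.commutes r).symm
  have : (RingHom.ker y₀).IsMaximal := RingHom.ker_isMaximal_of_surjective y₀.toRingHom fun r =>
    ⟨algebraMap K Y r, y₀.commutes r⟩
  let q : PrimeSpectrum Y := ⟨RingHom.ker y₀, inferInstance⟩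
  have : Algebra.FiniteType X Y := Algebra.FiniteType.of_restrictScalars_finiteType K X Y
  have h1 : q ∉ Module.support Y Ω[Y⁄X] := by
    apply Groth.Agent.Sga3B.CellEtAlg.notMem_support_of_der
    intro d
    set κ := q.asIdeal.ResidueField
    have e1 : ∀ y : Y, algebraMap Y κ y = algebraMap K κ (y₀ y) := by
      intro y
      have h2 : algebraMap Y κ (y - algebraMap K Y (y₀ y)) = 0 := by
        rw [Ideal.algebraMap_residueField_eq_zero]
        change y₀ (y - algebraMap K Y (y₀ y)) = 0
        rw [map_sub, AlgHom.commutes]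
        exact sub_self _
      rw [map_sub, sub_eq_zero] at h2
      rw [h2, ← IsScalarTower.algebraMap_apply K Y κ]
    have hsurj : Function.Surjective (algebraMap K κ) := by
      intro x
      have hmax : q.asIdeal.IsMaximal := inferInstanceAs (RingHom.ker y₀).IsMaximal
      obtain ⟨z, rfl⟩ := (q.asIdeal.bijective_algebraMap_quotient_residueField).2 x
      obtain ⟨y, rfl⟩ := Ideal.Quotient.mk_surjective z
      refine ⟨y₀ y, ?_⟩
      rw [← e1]
      rfl
    let e : K ≃ₐ[K] κ := AlgEquiv.ofBijective (Algebra.ofId K κ) ⟨(algebraMap K κ).injective, hsurj⟩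
    have he : ∀ c, e.symm (algebraMap K κ c) = c := fun c => e.symm_apply_apply c
    let D : Y →ₗ[K] K := e.symm.toLinearMap ∘ₗ (d.restrictScalars K).toLinearMap
    have hD : ∀ y, D y = e.symm (d y) := fun _ => rfl
    have hD0 : D = 0 := by
      apply hder
      · intro a b
        rw [hD, hD, hD, d.leibniz, Algebra.smul_def, Algebra.smul_def, e1, e1, map_add, map_mul,
          map_mul, he, he]
      · intro x
        rw [hD]
        have : d (φ x) = 0 := d.map_algebraMap x
        rw [this, map_zero]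
    ext y
    have h3 := LinearMap.congr_fun hD0 y
    rw [hD, LinearMap.zero_apply, map_eq_zero_iff _ e.symm.injective] at h3
    exact h3
  have h2 : q ∈ Algebra.etaleLocus X Y :=
    Groth.Agent.Sga3B.CellEtAlg.mem_etaleLocus (R := K) q h1 (hrank _ _)
  have : Algebra.FinitePresentation X Y := Algebra.FinitePresentation.of_restrict_scalars_finitePresentation K X Y
  obtain ⟨_, ⟨s, rfl⟩, hs1, hs2⟩ := PrimeSpectrum.isTopologicalBasis_basic_opens.exists_subset_of_mem_open h2
    Algebra.isOpen_etaleLocus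
  refine ⟨s, hs1, ?_⟩
  have h4 : Algebra.Etale X (Localization.Away s) :=
    Algebra.basicOpen_subset_etaleLocus_iff_etale.1 hs2
  have h5 := RingHom.etale_algebraMap (R := X) (S := Localization.Away s) |>.2 h4
  rwa [IsScalarTower.algebraMap_eq X Y] at h5

/-- two flat nonzero algebras over a domain of finite type have a common rational point -/
theorem exists_common_pt [IsDomain X] {Y₁ Y₂ : Type u} [CommRing Y₁] [CommRing Y₂] [Algebra K Y₁] [Algebra K Y₂]
    [Algebra.FiniteType K Y₁] [Algebra.FiniteType K Y₂] [Nontrivial Y₁] [Nontrivial Y₂]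
    (f₁ : X →ₐ[K] Y₁) (f₂ : X →ₐ[K] Y₂) (h₁ : f₁.toRingHom.Flat) (h₂ : f₂.toRingHom.Flat) :
    ∃ (y₁ : Y₁ →ₐ[K] K) (y₂ : Y₂ →ₐ[K] K), y₁.comp f₁ = y₂.comp f₂ := by
  let : Algebra X Y₁ := f₁.toRingHom.toAlgebra
  let : Algebra X Y₂ := f₂.toRingHom.toAlgebra
  have : IsScalarTower K X Y₁ := .of_algebraMap_eq fun r => (f₁.commutes r).symm
  have : IsScalarTower K X Y₂ := .of_algebraMap_eq fun r => (f₂.commutes r).symm
  have : Module.Flat X Y₁ := h₁
  have : Module.Flat X Y₂ := h₂
  have hinj : Function.Injective (algebraMap X Y₁) := by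
    rw [injective_iff_map_eq_zero]
    intro a ha
    by_contra h0
    have h4 : IsSMulRegular Y₁ a := Module.Flat.isSMulRegular_of_nonZeroDivisors (mem_nonZeroDivisors_of_ne_zero h0)
    have h5 : a • (1 : Y₁) = a • (0 : Y₁) := by
      rw [smul_zero, ← Algebra.algebraMap_eq_smul_one, ha]
    exact one_ne_zero (h4 h5)
  have h3 := Algebra.TensorProduct.includeRight_injective (R := X) (A := Y₁) (B := Y₂) hinj
  have : Nontrivial (Y₁ ⊗[X] Y₂) := h3.nontrivial
  have : Algebra.FiniteType K (Y₁ ⊗[X] Y₂) := by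
    have : Algebra.FiniteType X Y₂ := Algebra.FiniteType.of_restrictScalars_finiteType K X Y₂
    have : Algebra.FiniteType Y₁ (Y₁ ⊗[X] Y₂) := inferInstance
    exact Algebra.FiniteType.trans (S := Y₁) inferInstance inferInstance
  obtain ⟨z, -⟩ := Groth.Agent.Sga3B.RG.exists_algHom_of_ne_top (K := K) (B := Y₁ ⊗[X] Y₂) (J := ⊥) bot_ne_top
  refine ⟨z.comp ((Algebra.TensorProduct.includeLeft (R := X) (S := X) (A := Y₁) (B := Y₂)).restrictScalars K),
    z.comp ((Algebra.TensorProduct.includeRight (R := X) (A := Y₁) (B := Y₂)).restrictScalars K), ?_⟩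
  ext x
  change z (algebraMap X Y₁ x ⊗ₜ 1) = z (1 ⊗ₜ algebraMap X Y₂ x)
  rw [Algebra.algebraMap_eq_smul_one, Algebra.algebraMap_eq_smul_one, TensorProduct.smul_tmul]

theorem exists_pt_eq [Algebra.Smooth K X] [Algebra.Smooth K Y] [IsDomain X] (φ c : X →ₐ[K] Y)
    (hc : c.toRingHom.Etale) (y₀ : Y →ₐ[K] K)
    (hder : ∀ D : Y →ₗ[K] K, (∀ a b, D (a * b) = y₀ a * D b + y₀ b * D a) → (∀ x, D (φ x) = 0) → D = 0) :
    ∃ y₁ y₂ : Y →ₐ[K] K, y₁.comp φ = y₂.comp c := by
  have hrk : ∀ (p : PrimeSpectrum X), Module.rankAtStalk Ω[X⁄K] p =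
      Module.rankAtStalk Ω[X⁄K] (⊥ : PrimeSpectrum X) := fun p =>
    (Module.rankAtStalk_eq_of_le_of_finite_of_flat _ bot_le).symm
  obtain ⟨s, hs, het⟩ := exists_away_etale φ y₀ hder fun p q => by rw [hrk, rank_of_etale c hc q]
  have : Nontrivial Y := y₀.toRingHom.domain_nontrivial
  have : Nontrivial (Localization.Away s) := by
    have hu : IsUnit (y₀ s) := hs.isUnit
    exact (IsLocalization.Away.lift (S := Localization.Away s) s (g := y₀.toRingHom) hu).domain_nontrivial
  have : Algebra.FiniteType K (Localization.Away s) := by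
    have : Algebra.FiniteType Y (Localization.Away s) := IsLocalization.finiteType_of_monoid_fg (Submonoid.powers s) _
    exact Algebra.FiniteType.trans (S := Y) inferInstance inferInstance
  have hf1 : ((IsScalarTower.toAlgHom K Y (Localization.Away s)).comp φ).toRingHom.Flat := by
    let := ((algebraMap Y (Localization.Away s)).comp φ.toRingHom).toAlgebra
    have : Algebra.Etale X (Localization.Away s) := het
    exact inferInstanceAs (Module.Flat X (Localization.Away s))
  have hf2 : c.toRingHom.Flat := by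
    let := c.toRingHom.toAlgebra
    have : Algebra.Etale X Y := hc
    exact inferInstanceAs (Module.Flat X Y)
  obtain ⟨y₁, y₂, h⟩ := exists_common_pt _ c hf1 hf2
  exact ⟨y₁.comp (IsScalarTower.toAlgHom K Y (Localization.Away s)), y₂, h⟩

end

end Groth.Agent.RedSub.H650.EtPts
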