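import Groth.Agent.RedSub.H650.QuotGlue
import Groth.Agent.Dix.ProjProper
import Mathlib.AlgebraicGeometry.Morphisms.Smooth

/-!
# Smooth and locally projective quotients exist if they exist locally on the base
-/

set_option autoImplicit false

universe u

open CategoryTheory MonoidalCategory CartesianMonoidalCategory MonObj GrpObj AlgebraicGeometry Limits

namespace Groth.Agent.RedSub.H650.QuotProps

open QuotPts QuotGlue

variable {S : Scheme.{u}} {G P : Over S} [GrpObj G] [GrpObj P]

/-- The quotient over `S'` exists, is smooth and is a closed subscheme of a projective space. -/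
def GoodQuot {S' : Scheme.{u}} {G' P' : Over S'} [GrpObj G'] [GrpObj P'] (i' : P' ⟶ G') : Prop :=
  ∃ (Q : Over S') (q : G' ⟶ Q), RedSub.IsQuotient i' q ∧ Smooth Q.hom ∧
    ∃ (n : ℕ) (e : Q.left ⟶ CohB1.ProjSpaceOver n S'), IsClosedImmersion e ∧
      e ≫ CohB1.ProjSpaceOver.toBase n S' = Q.hom

theorem exists_quotient (i : P ⟶ G) [IsMonHom i] [Mono i]
    (h : ∀ s : S, ∃ (S' : Scheme.{u}) (j : S' ⟶ S) (_ : IsOpenImmersion j), s ∈ Set.range j ∧
      GoodQuot ((Over.pullback j).map i)) :
    ∃ (Q : Over S) (q : G ⟶ Q), RedSub.IsQuotient i q ∧ Smooth Q.hom ∧ IsProper Q.hom ∧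
        RedSub.IsLocallyProjective Q := by
  obtain ⟨Q, q, hq⟩ := exists_quotient_of_local i fun s => by
    obtain ⟨S', j, hj, hs, Q', q', hq', -⟩ := h s
    exact ⟨S', j, hj, hs, Q', q', hq'⟩
  -- comparison with the local quotients
  have key : ∀ s : S, ∃ (S' : Scheme.{u}) (j : S' ⟶ S) (_ : IsOpenImmersion j), s ∈ Set.range j ∧
      Smooth (Red.bc j Q).hom ∧ ∃ (n : ℕ) (e : (Red.bc j Q).left ⟶ CohB1.ProjSpaceOver n S'),
        IsClosedImmersion e ∧ e ≫ CohB1.ProjSpaceOver.toBase n S' = (Red.bc j Q).hom := by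
    intro s
    obtain ⟨S', j, hj, hs, Q', q', hq', hsm, n, e, he, hen⟩ := h s
    obtain ⟨ε, -⟩ := exists_iso (isQuotient_bc j hq) hq'
    have h1 : IsIso ε.hom.left := inferInstanceAs (IsIso ((Over.forget _).map ε.hom))
    refine ⟨S', j, hj, hs, ?_, n, ε.hom.left ≫ e, inferInstance, ?_⟩
    · have h2 : (Red.bc j Q).hom = ε.hom.left ≫ Q'.hom := (Over.w ε.hom).symm
      rw [h2]
      infer_instance
    · rw [Category.assoc, hen]
      exact Over.w ε.hom
  choose S' j hj hs hsm n e he hen using key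
  let 𝒰 : S.OpenCover :=
    { I₀ := S
      X := S'
      f := j
      mem₀ := by
        rw [Scheme.presieve₀_mem_precoverage_iff]
        exact ⟨fun s => ⟨s, hs s⟩, fun s => hj s⟩ }
  refine ⟨Q, q, hq, ?_, ?_, ?_⟩
  · have : IsZariskiLocalAtTarget (@Smooth : MorphismProperty Scheme.{u}) :=
      HasRingHomProperty.instIsZariskiLocalAtTarget (Q := RingHom.Smooth) _
    exact IsZariskiLocalAtTarget.of_openCover (P := @Smooth) 𝒰 fun s => hsm s
  · refine IsZariskiLocalAtTarget.of_openCover (P := @IsProper) 𝒰 fun s => ?_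
    have h1 : IsProper (e s ≫ CohB1.ProjSpaceOver.toBase (n s) (S' s)) := inferInstance
    rw [hen s] at h1
    exact h1
  · intro s
    have := hj s
    have := he s
    refine ⟨(j s).opensRange, hs s, n s, ?_⟩
    have hr : Set.range (j s) = Set.range (j s).opensRange.ι := by
      rw [Scheme.Opens.range_ι]
      rfl
    let k : ((j s).opensRange : Scheme.{u}) ≅ S' s :=
      (IsOpenImmersion.isoOfRangeEq (j s) (j s).opensRange.ι hr).symm
    have hk : k.hom ≫ j s = (j s).opensRange.ι := IsOpenImmersion.isoOfRangeEq_inv_fac _ _ hr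
    let a : pullback Q.hom (j s).opensRange.ι ⟶ pullback Q.hom (j s) :=
      pullback.map _ _ _ _ (𝟙 _) k.hom (𝟙 _) (by simp) (by rw [hk, Category.comp_id])
    have ha : a ≫ pullback.snd Q.hom (j s) = pullback.snd Q.hom (j s).opensRange.ι ≫ k.hom :=
      pullback.lift_snd _ _ _
    have hai : IsIso a := inferInstance
    have hmi : IsIso (Dix.ProjProper.mapBase (n s) k.inv) :=
      MorphismProperty.of_isPullback (P := MorphismProperty.isomorphisms Scheme)
        (Dix.ProjProper.isPullback_mapBase (n s) k.inv).flip inferInstance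
    refine ⟨a ≫ e s ≫ Dix.ProjProper.mapBase (n s) k.inv, inferInstance, ?_⟩
    rw [Category.assoc, Category.assoc, Dix.ProjProper.mapBase_toBase, ← Category.assoc (e s), hen s]
    change a ≫ pullback.snd Q.hom (j s) ≫ k.inv = _
    rw [← Category.assoc, ha, Category.assoc, Iso.hom_inv_id, Category.comp_id]
    rfl

end Groth.Agent.RedSub.H650.QuotProps
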