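import Groth.Agent.RedSub.H650.ValAC
import Groth.Agent.RedSub.H650.QuotProps
import Groth.Agent.RedSub.H671.IwaPt

/-!
# Properness of the quotient by a parabolic subgroup, and closed embedding into a projective space
-/

set_option autoImplicit false

universe u

open CategoryTheory MonoidalCategory CartesianMonoidalCategory MonObj GrpObj AlgebraicGeometry Limits

namespace Groth.Agent.RedSub.H650.ParVal

variable {S : Scheme.{u}} {G P Q : Over S} [GrpObj G] [GrpObj P]

theorem quasiCompact_of_comp_of_surjective {X Y Z : Scheme.{u}} (f : X ⟶ Y) (g : Y ⟶ Z) [Surjective f]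
    [QuasiCompact (f ≫ g)] : QuasiCompact g where
  isCompact_preimage U hU hc := by
    have h1 := QuasiCompact.isCompact_preimage (f := f ≫ g) U hU hc
    have h2 : (g ⁻¹' U : Set Y) = f '' ((f ≫ g) ⁻¹' U) := by
      ext y
      constructor
      · intro hy
        obtain ⟨x, rfl⟩ := f.surjective y
        exact ⟨x, by rwa [Set.mem_preimage, Scheme.Hom.comp_apply], rfl⟩
      · rintro ⟨x, hx, rfl⟩
        rwa [Set.mem_preimage, Scheme.Hom.comp_apply] at hx
    rw [h2]
    exact h1.image f.continuous

/-- The quotient of a reductive group by a parabolic subgroup satisfies the valuative criterion. -/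
theorem existAC (hG : Red.IsReductive G) (p : P ⟶ G) (hp : Red.IsParabolic p) (q : G ⟶ Q)
    (hq : RedSub.IsQuotient p q) : ValAC.ExistAC Q.hom := by
  intro O K _ _ _ _ _ _ _ i₁ c w
  have h1 := hq.1
  have h2 := hq.2.2.1
  obtain ⟨x, hx⟩ := ValAC.exists_lift_pt q.left K i₁
  let g : Over.mk (Spec.map (CommRingCat.ofHom (algebraMap O K)) ≫ c) ⟶ G := Over.homMk x (by
    rw [← Over.w q, ← Category.assoc, hx, w]
    rfl)
  obtain ⟨g₀, y, hg⟩ := H671.IwaPt.iwasawa hG p hp c g
  refine ⟨(g₀ ≫ q).left, ?_, Over.w (g₀ ≫ q)⟩
  have h3 : g ≫ q = H671.IwaPt.genPt K c ≫ g₀ ≫ q := by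
    rw [hg, QuotPts.mul_comp hq, Category.assoc]
  have h4 := congrArg (fun f => f.left) h3
  refine Eq.trans ?_ hx
  exact h4.symm

/-- **The quotient of a reductive group by a parabolic subgroup is universally closed.** -/
theorem universallyClosed (hG : Red.IsReductive G) (p : P ⟶ G) (hp : Red.IsParabolic p) (q : G ⟶ Q)
    (hq : RedSub.IsQuotient p q) : UniversallyClosed Q.hom := by
  have hGa : IsAffineHom G.hom := hG.1
  have h1 := hq.1
  have : QuasiCompact Q.hom := by
    have h2 : QuasiCompact (q.left ≫ Q.hom) := by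
      rw [Over.w]
      infer_instance
    exact quasiCompact_of_comp_of_surjective q.left Q.hom
  exact ValAC.universallyClosed (existAC hG p hp q hq)

/-- **A monomorphism from the quotient of a reductive group by a parabolic subgroup to a separated scheme, locally of
finite type, is a closed immersion.** -/
theorem isClosedImmersion (hG : Red.IsReductive G) (p : P ⟶ G) (hp : Red.IsParabolic p) (q : G ⟶ Q)
    (hq : RedSub.IsQuotient p q) {Y : Scheme.{u}} (π : Y ⟶ S) [IsSeparated π] (m : Q.left ⟶ Y) [Mono m]
    [LocallyOfFiniteType m] (hm : m ≫ π = Q.hom) : IsClosedImmersion m := by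
  have h1 := universallyClosed hG p hp q hq
  have h2 : UniversallyClosed m := by
    have : UniversallyClosed (m ≫ π) := by rw [hm]; exact h1
    exact UniversallyClosed.of_comp_of_isSeparated m π
  rw [IsClosedImmersion.iff_isProper_and_mono]
  exact ⟨⟨⟩, inferInstance⟩

end Groth.Agent.RedSub.H650.ParVal
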