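import Groth.Agent.RedSub.H650.QuotPts
import Groth.Agent.Sga3C.QuotGlue

/-!
# Fppf quotients by subgroups exist if they exist locally on the base
-/

set_option autoImplicit false

universe u

open CategoryTheory MonoidalCategory CartesianMonoidalCategory MonObj GrpObj AlgebraicGeometry Limits

namespace Groth.Agent.RedSub.H650.QuotGlue

open Groth.Agent.Sga3B Groth.Agent.Sga3C.QuotRel QuotPts

variable {S : Scheme.{u}} {G P : Over S} [GrpObj G]

/-- The first projection of the relation of right translations. -/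
noncomputable abbrev tt (G P : Over S) : (G ⊗ P).left ⟶ G.left := (fst G P).left

/-- The second projection `(g, p) ↦ g p` of the relation of right translations. -/
noncomputable abbrev ss (i : P ⟶ G) : (G ⊗ P).left ⟶ G.left := ((G ◁ i) ≫ μ[G]).left

variable {i : P ⟶ G}

theorem rel_iff {T : Scheme.{u}} {a b : T ⟶ G.left} :
    Rel (tt G P) (ss i) a b ↔ ∃ (w : b ≫ G.hom = a ≫ G.hom) (y : Over.mk (a ≫ G.hom) ⟶ P),
      (Over.homMk b w : Over.mk (a ≫ G.hom) ⟶ G) = Over.homMk a rfl * (y ≫ i) := by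
  constructor
  · rintro ⟨h, rfl, rfl⟩
    have h1 : tt G P ≫ G.hom = (G ⊗ P).hom := Over.w (fst G P)
    have h2 : ss i ≫ G.hom = (G ⊗ P).hom := Over.w ((G ◁ i) ≫ μ[G])
    have w : (h ≫ ss i) ≫ G.hom = (h ≫ tt G P) ≫ G.hom := by
      rw [Category.assoc, Category.assoc, h1, h2]
    let h' : Over.mk ((h ≫ tt G P) ≫ G.hom) ⟶ G ⊗ P := Over.homMk h (by
      change _ = (h ≫ tt G P) ≫ G.hom
      rw [Category.assoc, h1])
    refine ⟨w, h' ≫ snd G P, ?_⟩
    have h3 : h' = lift (Over.homMk (h ≫ tt G P) rfl) (h' ≫ snd G P) := by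
      apply CartesianMonoidalCategory.hom_ext
      · rw [lift_fst]
        rfl
      · simp
    rw [← lift_comp, ← h3]
    rfl
  · rintro ⟨w, y, hy⟩
    let a' : Over.mk (a ≫ G.hom) ⟶ G := Over.homMk a rfl
    let b' : Over.mk (a ≫ G.hom) ⟶ G := Over.homMk b w
    have e1 : lift a' y ≫ fst G P = a' := lift_fst a' y
    have e2 : lift a' y ≫ ((G ◁ i) ≫ μ[G]) = b' := (lift_comp i a' y).trans hy.symm
    exact ⟨(lift a' y).left, congrArg (fun x => x.left) e1, congrArg (fun x => x.left) e2⟩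

theorem rel_left_iff {T : Over S} {a b : T ⟶ G} :
    Rel (tt G P) (ss i) a.left b.left ↔ ∃ y : T ⟶ P, b = a * (y ≫ i) := by
  constructor
  · rintro ⟨h, h1, h2⟩
    let h' : T ⟶ G ⊗ P := Over.homMk h (by
      rw [← Over.w (fst G P), ← Over.w a, ← h1, Category.assoc])
    have e1 : h' ≫ fst G P = a := Over.OverMorphism.ext h1
    have e2 : h' ≫ ((G ◁ i) ≫ μ[G]) = b := Over.OverMorphism.ext h2
    have h3 : h' = lift a (h' ≫ snd G P) := by
      apply CartesianMonoidalCategory.hom_ext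
      · rw [lift_fst, e1]
      · simp
    refine ⟨h' ≫ snd G P, ?_⟩
    rw [← lift_comp, ← h3, e2]
  · rintro ⟨y, rfl⟩
    refine ⟨(lift a y).left, ?_, ?_⟩
    · exact congrArg (fun x => x.left) (lift_fst a y)
    · exact congrArg (fun x => x.left) (lift_comp i a y)

/-- Right translations by a subgroup define an equivalence relation. -/
theorem isERel [GrpObj P] [Mono i] [IsMonHom i] : IsERel (tt G P) (ss i) where
  mono {T} x y h1 h2 := by
    have hs : tt G P ≫ G.hom = (G ⊗ P).hom := Over.w (fst G P)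
    have hw : y ≫ (G ⊗ P).hom = x ≫ (G ⊗ P).hom := by
      rw [← hs, ← Category.assoc, ← h1, Category.assoc]
    let T' : Over S := Over.mk (x ≫ (G ⊗ P).hom)
    let x' : T' ⟶ G ⊗ P := Over.homMk x rfl
    let y' : T' ⟶ G ⊗ P := Over.homMk y hw
    have hs' : x' ≫ fst G P = y' ≫ fst G P := Over.OverMorphism.ext h1
    have ht' : x' ≫ ((G ◁ i) ≫ μ[G]) = y' ≫ ((G ◁ i) ≫ μ[G]) := Over.OverMorphism.ext h2
    have e1 : x' = lift (x' ≫ fst G P) (x' ≫ snd G P) := by
      apply CartesianMonoidalCategory.hom_ext <;> simp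
    have e2 : y' = lift (y' ≫ fst G P) (y' ≫ snd G P) := by
      apply CartesianMonoidalCategory.hom_ext <;> simp
    rw [e1, e2, lift_comp, lift_comp, hs'] at ht'
    have h3 := mul_left_cancel ht'
    have h4 : x' = y' := by
      rw [e1, e2, hs', (cancel_mono i).1 h3]
    exact congrArg (fun x => x.left) h4
  refl {T} a := by
    rw [rel_iff]
    exact ⟨rfl, 1, by rw [one_comp, _root_.mul_one]⟩
  symm {T} a b h := by
    rw [rel_iff] at h
    obtain ⟨w, y, hy⟩ := h
    change Rel _ _ (Over.homMk b w : Over.mk (a ≫ G.hom) ⟶ G).left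
      (Over.homMk a rfl : Over.mk (a ≫ G.hom) ⟶ G).left
    rw [rel_left_iff]
    refine ⟨y⁻¹, ?_⟩
    rw [hy, inv_comp, mul_inv_cancel_right]
  trans {T} a b c h1 h2 := by
    rw [rel_iff] at h1
    obtain ⟨w1, y1, hy1⟩ := h1
    obtain ⟨r, hr1, hr2⟩ := h2
    have w2 : c ≫ G.hom = a ≫ G.hom := by
      rw [← w1, ← hr1, ← hr2, Category.assoc, Category.assoc]
      congr 1
      exact (Over.w ((G ◁ i) ≫ μ[G])).trans (Over.w (fst G P)).symm
    let a' : Over.mk (a ≫ G.hom) ⟶ G := Over.homMk a rfl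
    let b' : Over.mk (a ≫ G.hom) ⟶ G := Over.homMk b w1
    let c' : Over.mk (a ≫ G.hom) ⟶ G := Over.homMk c w2
    have h2' : Rel (tt G P) (ss i) b'.left c'.left := ⟨r, hr1, hr2⟩
    obtain ⟨y2, hy2⟩ := rel_left_iff.1 h2'
    change Rel _ _ a'.left c'.left
    rw [rel_left_iff]
    refine ⟨y1 * y2, ?_⟩
    rw [hy2, show b' = a' * (y1 ≫ i) from hy1, MonObj.mul_comp, _root_.mul_assoc]

section Local

variable [GrpObj P] {S' : Scheme.{u}} (j : S' ⟶ S) [IsOpenImmersion j]

/-- points of the base change by an open immersion -/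
theorem rel_fst_iff [Mono i] {Q : Over S'} {q : Red.bc j G ⟶ Q}
    (hq : PtQuot ((Over.pullback j).map i) q) {T : Scheme.{u}} (a b : T ⟶ (Red.bc j G).left) :
    a ≫ q.left = b ≫ q.left ↔
      Rel (tt G P) (ss i) (a ≫ pullback.fst G.hom j) (b ≫ pullback.fst G.hom j) := by
  have key : ∀ w : b ≫ (Red.bc j G).hom = a ≫ (Red.bc j G).hom,
      (a ≫ q.left = b ≫ q.left ↔
        Rel (tt G P) (ss i) (a ≫ pullback.fst G.hom j) (b ≫ pullback.fst G.hom j)) := by
    intro w
    let T' : Over S' := Over.mk (a ≫ (Red.bc j G).hom)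
    let a' : T' ⟶ Red.bc j G := Over.homMk a rfl
    let b' : T' ⟶ Red.bc j G := Over.homMk b w
    have e : ∀ x : T' ⟶ Red.bc j G, ((BcPts.bcEquiv j T' G).symm x).left = x.left ≫ pullback.fst G.hom j := by
      intro x
      rw [BcPts.bcEquiv, Adjunction.homEquiv_counit, Over.mapPullbackAdj_counit_app, Over.comp_left]
      rfl
    have h1 : (a ≫ q.left = b ≫ q.left) ↔ a' ≫ q = b' ≫ q :=
      ⟨fun h => Over.OverMorphism.ext h, fun h => congrArg (fun x => x.left) h⟩
    rw [h1, hq, show a = a'.left from rfl, show b = b'.left from rfl, ← e, ← e]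
    refine Iff.trans ?_ (rel_left_iff (i := i)).symm
    constructor
    · rintro ⟨y, hy⟩
      refine ⟨(BcPts.bcEquiv j T' P).symm y, ?_⟩
      apply (BcPts.bcEquiv j T' G).injective
      rw [BcPts.bcEquiv_mul, BcPts.bcEquiv_comp, Equiv.apply_symm_apply, Equiv.apply_symm_apply,
        Equiv.apply_symm_apply, hy]
    · rintro ⟨y, hy⟩
      refine ⟨BcPts.bcEquiv j T' P y, ?_⟩
      have := congrArg (BcPts.bcEquiv j T' G) hy
      rwa [BcPts.bcEquiv_mul, BcPts.bcEquiv_comp, Equiv.apply_symm_apply, Equiv.apply_symm_apply] at this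
  constructor
  · intro hab
    refine (key ?_).1 hab
    rw [← Over.w q, ← Category.assoc, ← hab, Category.assoc]
  · intro hab
    refine (key ?_).2 hab
    obtain ⟨w, -⟩ := rel_iff.1 hab
    rw [← cancel_mono j]
    have h1 : (Red.bc j G).hom ≫ j = pullback.fst G.hom j ≫ G.hom := pullback.condition.symm
    rw [Category.assoc, Category.assoc, h1, ← Category.assoc, ← Category.assoc]
    exact w

theorem sat_preimage (V : S.Opens) : Sat (tt G P) (ss i) (G.hom ⁻¹ᵁ V) := by
  intro r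
  have h1 : tt G P ≫ G.hom = (G ⊗ P).hom := Over.w (fst G P)
  have h2 : ss i ≫ G.hom = (G ⊗ P).hom := Over.w ((G ◁ i) ≫ μ[G])
  rw [Scheme.Hom.mem_preimage, Scheme.Hom.mem_preimage, ← Scheme.Hom.comp_apply, ← Scheme.Hom.comp_apply, h1, h2]

theorem hasQuot_preimage [Mono i] {Q : Over S'} {q : Red.bc j G ⟶ Q}
    (hq : RedSub.IsQuotient ((Over.pullback j).map i) q) :
    HasQuot (tt G P) (ss i) (G.hom ⁻¹ᵁ j.opensRange) := by
  have hr : (pullback.fst G.hom j).opensRange = G.hom ⁻¹ᵁ j.opensRange := by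
    ext x
    have := Scheme.Pullback.range_fst (f := G.hom) (g := j)
    exact Set.ext_iff.1 this x
  have hr1 : Set.range (G.hom ⁻¹ᵁ j.opensRange).ι = Set.range (pullback.fst G.hom j) := by
    rw [Scheme.Opens.range_ι, ← hr]
    rfl
  let e : (G.hom ⁻¹ᵁ j.opensRange).toScheme ≅ (Red.bc j G).left :=
    IsOpenImmersion.isoOfRangeEq (G.hom ⁻¹ᵁ j.opensRange).ι (pullback.fst G.hom j) hr1
  have he : e.hom ≫ pullback.fst G.hom j = (G.hom ⁻¹ᵁ j.opensRange).ι :=
    IsOpenImmersion.isoOfRangeEq_hom_fac _ _ _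
  have h1 := hq.1
  have h2 := hq.2.1
  have h3 := hq.2.2.1
  refine ⟨Q.left, e.hom ≫ q.left, inferInstance, inferInstance, inferInstance, fun {T} a b => ?_⟩
  rw [← Category.assoc, ← Category.assoc, rel_fst_iff j (ptQuot_of_isPullback hq.2.2.2), Category.assoc,
    Category.assoc, he]

end Local

/-- **Gluing of quotients**: the quotient of `G` by the subgroup `P` exists if it exists locally on the base. -/
theorem exists_quotient_of_local [GrpObj P] (i : P ⟶ G) [IsMonHom i] [Mono i]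
    (h : ∀ s : S, ∃ (S' : Scheme.{u}) (j : S' ⟶ S) (_ : IsOpenImmersion j), s ∈ Set.range j ∧
      ∃ (Q : Over S') (q : Red.bc j G ⟶ Q), RedSub.IsQuotient ((Over.pullback j).map i) q) :
    ∃ (Q : Over S) (q : G ⟶ Q), RedSub.IsQuotient i q := by
  have hR : IsERel (tt G P) (ss i) := isERel
  obtain ⟨X, q, hq⟩ := Sga3C.QuotGlue.exists_isQuot hR fun x => by
    obtain ⟨S', j, hj, hs, Q, q, hq⟩ := h (G.hom x)
    exact ⟨G.hom ⁻¹ᵁ j.opensRange, hs, sat_preimage _, hasQuot_preimage j hq⟩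
  obtain ⟨π, hπ⟩ := hq.exists_desc G.hom ((Over.w (fst G P)).trans (Over.w ((G ◁ i) ≫ μ[G])).symm)
  refine ⟨Over.mk π, Over.homMk q hπ, hq.surj, hq.flat, hq.lfp, ?_⟩
  refine IsPullback.of_map (Over.forget S) ?_ (hq.isPullback hR)
  exact Over.OverMorphism.ext (hq.isPullback hR).w

end Groth.Agent.RedSub.H650.QuotGlue
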