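import Groth.Agent.Sga3B.BcPts
import Groth.Agent.Sga3C.QuotRel
import Groth.Agent.Sga3B.Parab.FibIsoSch
import Groth.Prelude.Def_RedSub

/-!
# Fppf quotients by subgroups in terms of points

`IsQuotient i q` in terms of points, base change, and uniqueness of the quotient.
-/

set_option autoImplicit false

universe u

open CategoryTheory MonoidalCategory CartesianMonoidalCategory MonObj GrpObj AlgebraicGeometry Limits

namespace Groth.Agent.RedSub.H650.QuotPts

open Groth.Agent.Sga3B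

variable {S : Scheme.{u}} {G P : Over S} [GrpObj G]

theorem lift_comp (i : P ⟶ G) {T : Over S} (a : T ⟶ G) (y : T ⟶ P) :
    lift a y ≫ ((G ◁ i) ≫ μ[G]) = a * (y ≫ i) := by
  rw [Hom.mul_def, ← Category.assoc]
  simp

/-- The kernel pair condition in terms of points. -/
def PtQuot (i : P ⟶ G) {Q : Over S} (q : G ⟶ Q) : Prop :=
  ∀ (T : Over S) (a b : T ⟶ G), a ≫ q = b ≫ q ↔ ∃ y : T ⟶ P, b = a * (y ≫ i)

theorem ptQuot_of_isPullback {i : P ⟶ G} {Q : Over S} {q : G ⟶ Q}
    (h : IsPullback (fst G P) ((G ◁ i) ≫ μ[G]) q q) : PtQuot i q := by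
  intro T a b
  constructor
  · intro hab
    refine ⟨h.lift a b hab ≫ snd G P, ?_⟩
    have h1 : lift a (h.lift a b hab ≫ snd G P) = h.lift a b hab := by
      apply CartesianMonoidalCategory.hom_ext
      · rw [lift_fst, h.lift_fst]
      · rw [lift_snd]
    rw [← lift_comp, h1, h.lift_snd]
  · rintro ⟨y, rfl⟩
    rw [← lift_comp, Category.assoc, ← h.w, ← Category.assoc, lift_fst]

theorem isPullback_of_ptQuot {i : P ⟶ G} [Mono i] {Q : Over S} {q : G ⟶ Q} (h : PtQuot i q) :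
    IsPullback (fst G P) ((G ◁ i) ≫ μ[G]) q q := by
  have hw : fst G P ≫ q = ((G ◁ i) ≫ μ[G]) ≫ q := by
    refine (h _ _ _).2 ⟨snd G P, ?_⟩
    rw [← lift_comp]
    simp
  refine ⟨⟨hw⟩, ⟨PullbackCone.IsLimit.mk hw
    (fun c => lift c.fst ((h _ _ _).1 c.condition).choose)
    (fun c => lift_fst _ _)
    (fun c => by
      rw [lift_comp]
      exact ((h _ _ _).1 c.condition).choose_spec.symm) ?_⟩⟩
  intro c m h1 h2
  apply CartesianMonoidalCategory.hom_ext
  · rw [lift_fst, h1]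
  · rw [lift_snd, ← cancel_mono i]
    have h3 := ((h _ _ _).1 c.condition).choose_spec
    have h4 : m = lift (m ≫ fst G P) (m ≫ snd G P) := by
      apply CartesianMonoidalCategory.hom_ext <;> simp
    rw [h4, lift_comp, h1, h3] at h2
    exact mul_left_cancel h2

section BaseChange

variable {S' : Scheme.{u}} (f : S' ⟶ S)

theorem PtQuot.bc {i : P ⟶ G} {Q : Over S} {q : G ⟶ Q} (h : PtQuot i q) :
    PtQuot ((Over.pullback f).map i) ((Over.pullback f).map q) := by
  intro T a b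
  obtain ⟨a, rfl⟩ := (BcPts.bcEquiv f T G).surjective a
  obtain ⟨b, rfl⟩ := (BcPts.bcEquiv f T G).surjective b
  have h1 := BcPts.bcEquiv_comp f a q
  have h2 := BcPts.bcEquiv_comp f b q
  constructor
  · intro hab
    obtain ⟨y, hy⟩ := (h _ a b).1 ((BcPts.bcEquiv f T Q).injective (h1.trans (hab.trans h2.symm)))
    refine ⟨BcPts.bcEquiv f T P y, ?_⟩
    rw [hy, BcPts.bcEquiv_mul, BcPts.bcEquiv_comp]
  · rintro ⟨y, hy⟩
    obtain ⟨y, rfl⟩ := (BcPts.bcEquiv f T P).surjective y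
    have h3 : b = a * (y ≫ i) := by
      apply (BcPts.bcEquiv f T G).injective
      rw [BcPts.bcEquiv_mul, BcPts.bcEquiv_comp]
      exact hy
    have h4 : a ≫ q = b ≫ q := (h _ a b).2 ⟨y, h3⟩
    exact h1.symm.trans ((congrArg _ h4).trans h2)

/-- Quotients are compatible with base change. -/
theorem isQuotient_bc [GrpObj P] {i : P ⟶ G} [Mono i] {Q : Over S} {q : G ⟶ Q}
    (h : RedSub.IsQuotient i q) :
    RedSub.IsQuotient ((Over.pullback f).map i) ((Over.pullback f).map q) := by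
  obtain ⟨h1, h2, h3, h4⟩ := h
  have hm : Mono ((Over.pullback f).map i) := inferInstance
  have hsq := Parab.FibIsoSch.isPullback_map_left f q
  refine ⟨MorphismProperty.of_isPullback hsq h1, MorphismProperty.of_isPullback hsq h2,
    MorphismProperty.of_isPullback hsq h3, ?_⟩
  exact isPullback_of_ptQuot ((ptQuot_of_isPullback h4).bc f)

end BaseChange

/-- Morphisms out of a quotient. -/
theorem exists_desc [GrpObj P] {i : P ⟶ G} {Q : Over S} {q : G ⟶ Q} (h : RedSub.IsQuotient i q)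
    {Y : Over S} (f : G ⟶ Y) (hf : ∀ (T : Over S) (a : T ⟶ G) (y : T ⟶ P), (a * (y ≫ i)) ≫ f = a ≫ f) :
    ∃ g : Q ⟶ Y, q ≫ g = f := by
  obtain ⟨h1, h2, h3, h4⟩ := h
  obtain ⟨g, hg⟩ := Sga3C.QuotRel.exists_desc q.left f.left fun {T} a b hab => by
    have hw : b ≫ G.hom = a ≫ G.hom := by
      rw [← Over.w q, ← Category.assoc, ← hab, Category.assoc]
    let a' : Over.mk (a ≫ G.hom) ⟶ G := Over.homMk a rfl
    let b' : Over.mk (a ≫ G.hom) ⟶ G := Over.homMk b hw
    obtain ⟨y, hy⟩ := ((ptQuot_of_isPullback h4) _ a' b').1 (Over.OverMorphism.ext hab)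
    have h5 := hf _ a' y
    rw [← hy] at h5
    exact (congrArg (fun x => x.left) h5).symm
  have hgw : g ≫ Y.hom = Q.hom := by
    have : Epi q.left := Flat.epi_of_flat_of_surjective q.left
    rw [← cancel_epi q.left, ← Category.assoc, hg, Over.w, Over.w]
  exact ⟨Over.homMk g hgw, Over.OverMorphism.ext hg⟩

theorem epi_of_isQuotient [GrpObj P] {i : P ⟶ G} {Q : Over S} {q : G ⟶ Q} (h : RedSub.IsQuotient i q) :
    Epi q := by
  have h1 := h.1
  have h2 := h.2.1
  have : Epi q.left := Flat.epi_of_flat_of_surjective q.left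
  exact Over.epi_of_epi_left q

theorem mul_comp [GrpObj P] {i : P ⟶ G} {Q : Over S} {q : G ⟶ Q} (h : RedSub.IsQuotient i q)
    {T : Over S} (a : T ⟶ G) (y : T ⟶ P) : (a * (y ≫ i)) ≫ q = a ≫ q :=
  ((ptQuot_of_isPullback h.2.2.2 _ _ _).2 ⟨y, rfl⟩).symm

/-- Uniqueness of quotients. -/
theorem exists_iso [GrpObj P] {i : P ⟶ G} {Q Q' : Over S} {q : G ⟶ Q} {q' : G ⟶ Q'}
    (h : RedSub.IsQuotient i q) (h' : RedSub.IsQuotient i q') : ∃ e : Q ≅ Q', q ≫ e.hom = q' := by
  obtain ⟨a, ha⟩ := exists_desc h q' fun T x y => mul_comp h' x y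
  obtain ⟨b, hb⟩ := exists_desc h' q fun T x y => mul_comp h x y
  have := epi_of_isQuotient h
  have := epi_of_isQuotient h'
  refine ⟨⟨a, b, ?_, ?_⟩, ha⟩
  · rw [← cancel_epi q, ← Category.assoc, ha, hb, Category.comp_id]
  · rw [← cancel_epi q', ← Category.assoc, hb, ha, Category.comp_id]

end Groth.Agent.RedSub.H650.QuotPts
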