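import Mathlib.AlgebraicGeometry.ValuativeCriterion
import Mathlib.AlgebraicGeometry.AlgClosed.Basic
import Mathlib.AlgebraicGeometry.ZariskisMainTheorem
import Mathlib.FieldTheory.IsAlgClosed.AlgebraicClosure

/-!
# The valuative criterion with valuation rings of algebraically closed fields
-/

set_option autoImplicit false

universe u

open CategoryTheory Limits AlgebraicGeometry IsLocalRing

namespace Groth.Agent.RedSub.H650.ValAC

/-- Existence of liftings for valuation rings with algebraically closed fields of fractions. -/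
def ExistAC {X Y : Scheme.{u}} (f : X ⟶ Y) : Prop :=
  ∀ (R K : Type u) [CommRing R] [IsDomain R] [ValuationRing R] [Field K] [Algebra R K] [IsFractionRing R K]
    [IsAlgClosed K] (i₁ : Spec (CommRingCat.of K) ⟶ X) (i₂ : Spec (CommRingCat.of R) ⟶ Y),
    i₁ ≫ f = Spec.map (CommRingCat.ofHom (algebraMap R K)) ≫ i₂ →
    ∃ l : Spec (CommRingCat.of R) ⟶ X,
      Spec.map (CommRingCat.ofHom (algebraMap R K)) ≫ l = i₁ ∧ l ≫ f = i₂

variable {X Y : Scheme.{u}} {f : X ⟶ Y}

/-- the closed point of the spectrum of a local ring -/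
noncomputable abbrev cp (R : Type u) [CommRing R] [IsLocalRing R] : ↥(Spec (CommRingCat.of R)) := closedPoint R

theorem specializingMap (H : ExistAC f) : SpecializingMap f := by
  intro x' y h
  let K := AlgebraicClosure (X.residueField x')
  let κ : X.residueField x' ⟶ CommRingCat.of K := CommRingCat.ofHom (algebraMap (X.residueField x') K)
  let φ : Y.presheaf.stalk y ⟶ CommRingCat.of K :=
    Y.presheaf.stalkSpecializes h ≫ f.stalkMap x' ≫ X.residue x' ≫ κ
  obtain ⟨A, hA, hA_local⟩ := exists_factor_valuationRing φ.hom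
  let ψ : Y.presheaf.stalk y ⟶ .of A := CommRingCat.ofHom (φ.hom.codRestrict _ hA)
  have w : (Spec.map κ ≫ X.fromSpecResidueField x') ≫ f =
      Spec.map (CommRingCat.ofHom (algebraMap A K)) ≫ Spec.map ψ ≫ Y.fromSpecStalk y := by
    rw [Category.assoc, Scheme.fromSpecResidueField, Category.assoc, ← Scheme.SpecMap_stalkMap_fromSpecStalk,
      ← Scheme.SpecMap_stalkSpecializes_fromSpecStalk h]
    simp_rw [← Spec.map_comp_assoc]
    rfl
  obtain ⟨l, hl₁, hl₂⟩ := H A K _ _ w
  have h1 : (Spec.map κ ≫ X.fromSpecResidueField x') (cp K) = x' := by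
    rw [Scheme.Hom.comp_apply]
    exact Scheme.fromSpecResidueField_apply x' _
  have h2 : l (cp A) ∈ closure {l (Spec.map (CommRingCat.ofHom (algebraMap A K)) (cp K))} := by
    rw [← specializes_iff_mem_closure]
    exact (specializes_closedPoint _).map l.continuous
  have h3 : l (Spec.map (CommRingCat.ofHom (algebraMap A K)) (cp K)) = x' := by
    rw [← Scheme.Hom.comp_apply, hl₁, h1]
  refine ⟨l (cp A), ?_, ?_⟩
  · rw [h3, ← specializes_iff_mem_closure] at h2
    exact h2
  · rw [← Scheme.Hom.comp_apply, hl₂, Scheme.Hom.comp_apply]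
    have : Spec.map ψ (cp A) = closedPoint (Y.presheaf.stalk y) :=
      comap_closedPoint (S := A) (φ.hom.codRestrict A.toSubring hA)
    rw [this, Y.fromSpecStalk_closedPoint]

theorem existAC_of_isPullback {X' Y' : Scheme.{u}} {f' : X' ⟶ Y'} {a : X' ⟶ X} {b : Y' ⟶ Y}
    (hP : IsPullback a f' f b) (H : ExistAC f) : ExistAC f' := by
  intro R K _ _ _ _ _ _ _ i₁ i₂ w
  obtain ⟨l, h1, h2⟩ := H R K (i₁ ≫ a) (i₂ ≫ b) (by
    rw [Category.assoc, hP.w, ← Category.assoc, w, Category.assoc])
  refine ⟨hP.lift l i₂ h2, ?_, hP.lift_snd _ _ _⟩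
  apply hP.hom_ext
  · rw [Category.assoc, hP.lift_fst, h1]
  · rw [Category.assoc, hP.lift_snd, w]

/-- **The valuative criterion of universal closedness**, valuation rings of algebraically closed fields suffice. -/
theorem universallyClosed (H : ExistAC f) [QuasiCompact f] : UniversallyClosed f := by
  rw [universallyClosed_eq_universallySpecializing]
  refine ⟨?_, inferInstance⟩
  intro X' Y' a b f' hP
  exact specializingMap (existAC_of_isPullback hP.flip H)

/-- Points with values in an algebraically closed field lift along surjective morphisms locally of finite type. -/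
theorem exists_lift_pt (q : X ⟶ Y) [Surjective q] [LocallyOfFiniteType q] (K : Type u) [Field K] [IsAlgClosed K]
    (y : Spec (CommRingCat.of K) ⟶ Y) : ∃ x : Spec (CommRingCat.of K) ⟶ X, x ≫ q = y := by
  let π : pullback q y ⟶ Spec (CommRingCat.of K) := pullback.snd q y
  have h1 : JacobsonSpace ↥(pullback q y) := LocallyOfFiniteType.jacobsonSpace π
  obtain ⟨z, -⟩ := π.surjective (cp K)
  obtain ⟨x, -, hx⟩ := nonempty_inter_closedPoints (X := ↥(pullback q y)) ⟨z, Set.mem_univ z⟩
    isOpen_univ.isLocallyClosed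
  refine ⟨pointOfClosedPoint π x hx ≫ pullback.fst q y, ?_⟩
  rw [Category.assoc, pullback.condition, ← Category.assoc]
  exact (congrArg (· ≫ y) (pointOfClosedPoint_comp π x hx)).trans (Category.id_comp y)

end Groth.Agent.RedSub.H650.ValAC
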